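import Groth.Agent.TorSelf.Sheaf
import Groth.Agent.DerivedCoh.KFlat.Amplitude
import Groth.Agent.DerivedCoh.KFlat.SchemeResolution
import Groth.Agent.Ega4Algebra2.RegularImmersion
import Groth.Agent.KoszulLCI.Kinds
import Groth.Agent.KoszulLCI.ConormalFree
import Groth.Prelude.Def_RegImm

/-!
# `H^{-q}(i^* E) ≅ Λ^q C` for a flat resolution `E` of `i_* O_Y`, `i` regular
-/

set_option autoImplicit false
universe u

open CategoryTheory CategoryTheory.Limits AlgebraicGeometry HomologicalComplex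
open Groth.DerivedCoh.KFlat (T IsKFlat pullCx schemeCover)

noncomputable section

namespace Groth.TorSelf

variable {X Y : Scheme.{u}}

local notation "up" => ComplexShape.up ℤ

theorem isZero_single_X (M : X.Modules) {n : ℤ} (h : n ≠ 0) :
    IsZero (((HomologicalComplex.single X.Modules up 0).obj M).X n) :=
  HomologicalComplex.isZero_single_obj_X up 0 M n h

/-- A bounded above flat resolution of a module. -/
theorem exists_flatCx (M : X.Modules) :
    ∃ (K : CochainComplex X.Modules ℤ) (α : K ⟶ (HomologicalComplex.single X.Modules up 0).obj M),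
      (∀ n, 0 < n → IsZero (K.X n)) ∧ (∀ n, FlatMod.IsFlat (K.X n)) ∧ Epi α ∧ QuasiIso α := by
  let V := schemeCover X
  let C := (HomologicalComplex.single X.Modules up 0).obj M
  have h0 : ∀ p, (0 : ℤ) < p → IsZero (C.X p) := fun p hp => isZero_single_X M (ne_of_gt hp)
  exact ⟨V.res.obj C, V.resAug.app C, fun n hn => V.res_X_zero C 0 h0 n hn,
    fun n => V.res_X_prop FlatMod.IsFlat DerivedCoh.KFlat.isFlat_coverObj
      (fun _ => DerivedCoh.KFlat.isFlat_of_isZero) (fun e h => CohTwo.isFlat_of_iso e.symm h)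
      DerivedCoh.KFlat.isFlat_sigma₀ C n,
    V.epi_resAug C, V.quasiIso_resAug C 0 h0⟩

theorem isKFlat_of_flatCx {K : CochainComplex X.Modules ℤ} (h : ∀ n, 0 < n → IsZero (K.X n))
    (hf : ∀ n, FlatMod.IsFlat (K.X n)) : IsKFlat (T X) K :=
  DerivedCoh.KFlat.isKFlat_of_flat (T X) K 0 h fun q => DerivedCoh.KFlat.flat_of_isFlat (hf q)

section FromCx

variable {i : Y ⟶ X} [IsClosedImmersion i] {K : CochainComplex X.Modules ℤ}
  (hzero : ∀ n, 0 < n → IsZero (K.X n)) (hflat : ∀ n, FlatMod.IsFlat (K.X n))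
  (α : K ⟶ (HomologicalComplex.single X.Modules up 0).obj ((Scheme.Modules.pushforward i).obj (Coh.structureModule Y)))
  [Epi α] [QuasiIso α]

/-- The differentials in homological degrees. -/
abbrev dneg (K : CochainComplex X.Modules ℤ) (n : ℕ) : K.X (-((n + 1 : ℕ) : ℤ)) ⟶ K.X (-(n : ℤ)) :=
  K.d (-((n + 1 : ℕ) : ℤ)) (-(n : ℤ))

/-- The resolution given by a complex. -/
def resolutionOfCx : Resolution i where
  E n := K.X (-(n : ℤ))
  d n := dneg K n
  aug := α.f 0 ≫ (HomologicalComplex.singleObjXSelf up 0 _).hom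
  epi := by
    have : Epi (α.f 0) := inferInstanceAs (Epi ((HomologicalComplex.eval _ up 0).map α))
    exact epi_comp _ _
  w₀ := by
    show K.d (-((0 + 1 : ℕ) : ℤ)) 0 ≫ _ = 0
    rw [← Category.assoc, ← α.comm, (isZero_single_X _ (by simp)).eq_of_tgt (α.f _) 0, zero_comp, zero_comp]
  exact₀ := by
    have h : QuasiIsoAt α 0 := inferInstance
    rw [quasiIsoAt_iff' α (-((0 + 1 : ℕ) : ℤ)) 0 1 (by simp) (by simp)] at h
    have h1 := ((ShortComplex.quasiIso_iff_of_zeros' _ ((hzero 1 Int.one_pos).eq_of_tgt _ _)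
      ((isZero_single_X ((Scheme.Modules.pushforward i).obj (Coh.structureModule Y)) (n := -((0 + 1 : ℕ) : ℤ)) (by simp)).eq_of_src _ _) ((isZero_single_X ((Scheme.Modules.pushforward i).obj (Coh.structureModule Y)) (n := 1) (by simp)).eq_of_tgt _ _)).1 h).1
    refine ShortComplex.exact_of_iso (ShortComplex.isoMk (Iso.refl _) (Iso.refl _)
      (HomologicalComplex.singleObjXSelf up 0 _) ?_ ?_) h1
    · exact (Category.id_comp _).trans (Category.comp_id _).symm
    · exact Category.id_comp _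
  w n := K.d_comp_d _ _ _
  exact n := by
    have h : K.ExactAt (-((n + 1 : ℕ) : ℤ)) := by
      rw [exactAt_iff_isZero_homology]
      have hne : (-((n + 1 : ℕ) : ℤ)) ≠ 0 := by omega
      exact IsZero.of_iso ((exactAt_iff_isZero_homology _ _).1
        (HomologicalComplex.exactAt_single_obj up 0 _ _ hne)) (asIso (homologyMap α _))
    rw [exactAt_iff' _ (-((n + 1 + 1 : ℕ) : ℤ)) (-((n + 1 : ℕ) : ℤ)) (-(n : ℤ)) (by simp; omega)
      (by simp)] at h
    exact h
  flat n x := hflat _ x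

variable (hreg : StalkRegular i) (hC : FlatMod.IsFinLocFree (Omega.conormal i))

include hzero hflat α hreg hC in
/-- `H^{-q}(i^* E) ≅ Λ^q C`. -/
theorem nonempty_homology_pull (q : ℕ) :
    Nonempty (((pullCx i).obj K).homology (-(q : ℤ)) ≅ LocFree.extPow q (Omega.conormal i)) := by
  let R := resolutionOfCx (i := i) hzero hflat α
  cases q with
  | zero =>
    obtain ⟨e⟩ := nonempty_iso_zero R hC hreg
    let S := ((pullCx i).obj K).sc' (-((0 + 1 : ℕ) : ℤ)) (-((0 : ℕ) : ℤ)) 1
    have hg : S.g = 0 := ((Scheme.Modules.pullback i).map_isZero (hzero 1 Int.one_pos)).eq_of_tgt _ _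
    exact ⟨((pullCx i).obj K).homologyIsoSc' (-((0 + 1 : ℕ) : ℤ)) _ 1 (by simp) (by simp) ≪≫
      (ShortComplex.RightHomologyData.ofHasCokernel S hg).homologyIso ≪≫ e.symm⟩
  | succ q =>
    obtain ⟨e⟩ := nonempty_iso_succ R hC hreg q
    let S := ((pullCx i).obj K).sc' (-((q + 1 + 1 : ℕ) : ℤ)) (-((q + 1 : ℕ) : ℤ)) (-(q : ℤ))
    exact ⟨((pullCx i).obj K).homologyIsoSc' (-((q + 1 + 1 : ℕ) : ℤ)) _ (-(q : ℤ)) (by simp; omega)
      (by simp) ≪≫ S.homologyIsoKernelDesc ≪≫ e.symm⟩

end FromCx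

/-- Regular generators on a chart give Koszul-regular generators at every point. -/
theorem stalkRegular_of_charts (i : Y ⟶ X) [IsClosedImmersion i]
    (h : ∀ y : Y, ∃ (U : X.Opens) (hU : IsAffineOpen U), i y ∈ U ∧
      ∃ rs : List Γ(X, U), RingTheory.Sequence.IsWeaklyRegular Γ(X, U) rs ∧
        i.ker.ideal ⟨U, hU⟩ = Ideal.ofList rs) :
    StalkRegular i := fun y => by
  obtain ⟨U, hU, hy, rs, hrs, hk⟩ := h y
  obtain ⟨rs', hrs', hk'⟩ := Ega4b.isRegularIdeal_of_affine i hU y hy rs hrs hk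
  refine ⟨rs'.length, rs'.get, ?_, fun m v hv => ?_⟩
  · rw [stIdeal, ← hk', Ideal.ofList, Set.range_list_get]
  · refine Calg5.KoszulColon.exact_of_isKoszulRegularSeq rs'.get ?_ m v hv
    rw [List.ofFn_get]
    exact KoszulReg.isKoszulRegularSeq_of_isWeaklyRegular hrs'.toIsWeaklyRegular

theorem stalkRegular_of_mor2 (i : Y ⟶ X) [IsClosedImmersion i] (h : Mor2.IsRegularClosedImmersion i) :
    StalkRegular i :=
  stalkRegular_of_charts i fun y => by
    obtain ⟨U, hU, hy, rs, hrs, hk⟩ := h.2 y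
    exact ⟨U, hU, hy, rs, hrs.toIsWeaklyRegular, hk⟩

theorem stalkRegular_of_regImm (i : Y ⟶ X) [IsClosedImmersion i]
    (h : RegImm.IsRegularImmersion RegImm.Kind.regular i) : StalkRegular i :=
  stalkRegular_of_charts i fun y => by
    obtain ⟨U, hy, -, rs, hrs, hk⟩ := h.2 y
    refine ⟨U.1, U.2, hy, rs, RingTheory.Sequence.IsRegular.toIsWeaklyRegular hrs, ?_⟩
    rw [← hk]
    exact i.ker_apply U

theorem isFinLocFree_conormal_regImm (i : Y ⟶ X) [IsClosedImmersion i]
    (h : RegImm.IsRegularImmersion RegImm.Kind.regular i) : FlatMod.IsFinLocFree (Omega.conormal i) := by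
  refine KoszulLCI.isFinLocFree_conormal i fun z => ?_
  obtain ⟨U, hz, hci, rs, hrs, hker⟩ := h.2 z
  exact ⟨U, hz, hci, rs, KoszulLCI.seq_h1_of_koszul (KoszulLCI.seq_koszul_of_regular hrs), hker⟩

end Groth.TorSelf
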