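import Groth.Agent.KTheory.Basic
import Mathlib.Algebra.Homology.DerivedCategory.TStructure
import Mathlib.Algebra.Homology.DerivedCategory.SingleTriangle
import Mathlib.Algebra.Homology.DerivedCategory.FullyFaithful
import Mathlib.CategoryTheory.Triangulated.Subcategory
import Mathlib.Tactic

/-!
# The class of a bounded complex is the alternating sum of the classes of its cohomology

No closure of the coefficient objects under kernels is needed, only that they lie in the triangulated property.
-/

set_option autoImplicit false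
universe w v u

open CategoryTheory CategoryTheory.Limits CategoryTheory.Pretriangulated DerivedCategory ZeroObject

namespace Groth.TorSelf

variable {C : Type u} [Category.{v} C] [Abelian C] [HasDerivedCategory.{w} C]
  (P : ObjectProperty (DerivedCategory C)) [P.IsTriangulated] [P.IsClosedUnderIsomorphisms]

theorem prop_zero_obj : P (0 : DerivedCategory C) :=
  P.prop_of_isZero (isZero_zero _)

theorem clTr_iso' {K L : DerivedCategory C} (e : K ≅ L) (hK : P K) :
    KZero.clTr P K = KZero.clTr P L :=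
  KTheory.clTr_iso e hK (P.prop_of_iso e hK) (isZero_zero _) (prop_zero_obj P)

/-- A single object in degree `-n`. -/
theorem clTr_single_neg {A : C} (hA : P ((singleFunctor C 0).obj A)) (n : ℕ) :
    P ((singleFunctor C (-(n : ℤ))).obj A) ∧
      KZero.clTr P ((singleFunctor C (-(n : ℤ))).obj A) = (-1 : ℤ) ^ n • KZero.clTr P ((singleFunctor C 0).obj A) := by
  induction n with
  | zero => simpa using hA
  | succ n ih =>
    have e := ((singleFunctors C).shiftIso 1 (-((n + 1 : ℕ) : ℤ)) (-(n : ℤ)) (by simp)).app A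
    have hsh : P (((singleFunctor C (-(n : ℤ))).obj A)⟦(1 : ℤ)⟧) := P.le_shift 1 _ ih.1
    refine ⟨P.prop_of_iso e hsh, ?_⟩
    rw [← clTr_iso' P e hsh]
    refine (KTheory.clTr_shift (P := P) ih.1 hsh (isZero_zero _) (prop_zero_obj P)).trans ?_
    rw [ih.2, pow_succ, mul_neg_one, neg_smul]

theorem clTr_eq_sum_homology (c : ℕ) : ∀ (K : DerivedCategory C), K.IsGE (-(c : ℤ)) → K.IsLE 0 →
    (∀ p : ℕ, p ≤ c → P ((singleFunctor C 0).obj ((homologyFunctor C (-(p : ℤ))).obj K))) →
    P K ∧ KZero.clTr P K = ∑ p ∈ Finset.range (c + 1),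
      (-1 : ℤ) ^ p • KZero.clTr P ((singleFunctor C 0).obj ((homologyFunctor C (-(p : ℤ))).obj K)) := by
  induction c with
  | zero =>
    intro K hGE hLE hP
    have : K.IsGE 0 := by simpa using hGE
    obtain ⟨A, ⟨e⟩⟩ := K.exists_iso_singleFunctor_obj_of_isGE_of_isLE 0
    let f : (singleFunctor C 0).obj ((homologyFunctor C (-((0 : ℕ) : ℤ))).obj K) ≅ K :=
      (singleFunctor C 0).mapIso ((homologyFunctor C 0).mapIso e ≪≫
        (singleFunctorCompHomologyFunctorIso C 0).app A) ≪≫ e.symm
    have h0 := hP 0 le_rfl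
    refine ⟨P.prop_of_iso f h0, ?_⟩
    rw [← clTr_iso' P f h0, Finset.sum_range_one, pow_zero, one_smul]
  | succ c ih =>
    intro K hGE hLE hP
    obtain ⟨X, Y, hX, hY, f, g, d, hT⟩ :=
      TStructure.t.exists_triangle K (-((c + 1 : ℕ) : ℤ)) (-(c : ℤ)) (by simp)
    have hXle : X.IsLE (-((c + 1 : ℕ) : ℤ)) := ⟨hX⟩
    have hYge : Y.IsGE (-(c : ℤ)) := ⟨hY⟩
    let T := Triangle.mk f g d
    change T ∈ _ at hT
    have isoX : ∀ i : ℤ, i ≤ -((c + 1 : ℕ) : ℤ) → IsIso ((homologyFunctor C i).map f) := fun i hi => by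
      have : Mono ((homologyFunctor C i).map T.mor₁) := by
        rw [HomologySequence.mono_homologyMap_mor₁_iff T hT (i - 1) i (by omega)]
        exact (isZero_of_isGE Y (-(c : ℤ)) (i - 1) (by omega)).eq_of_src _ _
      have : Epi ((homologyFunctor C i).map T.mor₁) := by
        rw [HomologySequence.epi_homologyMap_mor₁_iff T hT i]
        exact (isZero_of_isGE Y (-(c : ℤ)) i (by omega)).eq_of_tgt _ _
      exact isIso_of_mono_of_epi ((homologyFunctor C i).map T.mor₁)
    have isoY : ∀ i : ℤ, -(c : ℤ) ≤ i → IsIso ((homologyFunctor C i).map g) := fun i hi => by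
      have : Mono ((homologyFunctor C i).map T.mor₂) := by
        rw [HomologySequence.mono_homologyMap_mor₂_iff T hT i]
        exact (isZero_of_isLE X (-((c + 1 : ℕ) : ℤ)) i (by omega)).eq_of_src _ _
      have : Epi ((homologyFunctor C i).map T.mor₂) := by
        rw [HomologySequence.epi_homologyMap_mor₂_iff T hT i (i + 1) rfl]
        exact (isZero_of_isLE X (-((c + 1 : ℕ) : ℤ)) (i + 1) (by omega)).eq_of_tgt _ _
      exact isIso_of_mono_of_epi ((homologyFunctor C i).map T.mor₂)
    have hYle : Y.IsLE 0 := by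
      rw [isLE_iff]
      intro i hi
      have := isoY i (by omega)
      exact (isZero_of_isLE K 0 i hi).of_iso (asIso ((homologyFunctor C i).map g)).symm
    have hXge : X.IsGE (-((c + 1 : ℕ) : ℤ)) := by
      rw [isGE_iff]
      intro i hi
      have := isoX i hi.le
      exact (isZero_of_isGE K (-((c + 1 : ℕ) : ℤ)) i hi).of_iso (asIso ((homologyFunctor C i).map f))
    have eY : ∀ p : ℕ, p ≤ c → ((singleFunctor C 0).obj ((homologyFunctor C (-(p : ℤ))).obj K) ≅
        (singleFunctor C 0).obj ((homologyFunctor C (-(p : ℤ))).obj Y)) := fun p hp =>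
      haveI := isoY (-(p : ℤ)) (by omega)
      (singleFunctor C 0).mapIso (asIso ((homologyFunctor C (-(p : ℤ))).map g))
    obtain ⟨hPY, hclY⟩ := ih Y hYge hYle fun p hp => P.prop_of_iso (eY p hp) (hP p (by omega))
    obtain ⟨A, ⟨e⟩⟩ := X.exists_iso_singleFunctor_obj_of_isGE_of_isLE (-((c + 1 : ℕ) : ℤ))
    have := isoX (-((c + 1 : ℕ) : ℤ)) le_rfl
    let eA : (singleFunctor C 0).obj ((homologyFunctor C (-((c + 1 : ℕ) : ℤ))).obj K) ≅ (singleFunctor C 0).obj A :=
      (singleFunctor C 0).mapIso ((asIso ((homologyFunctor C (-((c + 1 : ℕ) : ℤ))).map f)).symm ≪≫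
        (homologyFunctor C _).mapIso e ≪≫ (singleFunctorCompHomologyFunctorIso C _).app A)
    have hA := hP (c + 1) le_rfl
    obtain ⟨hPA, hclA⟩ := clTr_single_neg P (P.prop_of_iso eA hA) (c + 1)
    have hPX : P X := P.prop_of_iso e.symm hPA
    have hPK : P K := P.ext_of_isTriangulatedClosed₂ T hT hPX hPY
    refine ⟨hPK, ?_⟩
    refine (KTheory.clTr_rel (P := P) T hT hPX hPK hPY).trans ?_
    show KZero.clTr P X + KZero.clTr P Y = _
    rw [Finset.sum_range_succ _ (c + 1), add_comm, hclY, clTr_iso' P e hPX, hclA, ← clTr_iso' P eA hA]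
    refine congrArg (· + _) (Finset.sum_congr rfl fun p hp => ?_)
    have hpc : p ≤ c := by rw [Finset.mem_range] at hp; omega
    rw [← clTr_iso' P (eY p hpc) (hP p (by omega))]

end Groth.TorSelf
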