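import Groth.Agent.TorSelf.Main
import Groth.Agent.DerivedCoh.PerfPush.Amp
import Groth.Agent.Misc4.ProjClosed
import Groth.Agent.Misc7.ClosedImm.SpectralSeq
import Groth.Agent.PicAux.Powers
import Groth.Agent.Misc6.DevissageSupp

/-!
# `H^{-q}(Li^* i_* M) ≅ M ⊗ Λ^q C` for locally free `M`
-/

set_option autoImplicit false
universe u

open CategoryTheory CategoryTheory.Limits AlgebraicGeometry HomologicalComplex
open Groth.DerivedCoh.KFlat (T IsKFlat pullCx tmCx tot pushCx)
attribute [local instance] HasDerivedCategory.standard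

noncomputable section

namespace Groth.TorSelf

variable {X Y : Scheme.{u}} (i : Y ⟶ X) [IsClosedImmersion i]

local notation "up" => ComplexShape.up ℤ

/-- `i_* M ⊗ - = i_*(M ⊗ i^* -)`. -/
def pushTensorLeft (M : Y.Modules) :
    (T X).obj ((Scheme.Modules.pushforward i).obj M) ≅
      (Scheme.Modules.pullback i ⋙ (T Y).obj M) ⋙ Scheme.Modules.pushforward i :=
  NatIso.ofComponents (fun N => @asIso _ _ _ _ (Misc4.ProjMap.pR i M N) (Misc4.ProjClosed.isIso_pR i M N))
    fun φ => Misc4.ProjMap.pR_right i M φ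

/-- `- ⊗ i_* O = i_* i^*`. -/
def pushTensorRight :
    DCoh.tensorRightMod ((Scheme.Modules.pushforward i).obj (Coh.structureModule Y)) ≅
      Scheme.Modules.pullback i ⋙ Scheme.Modules.pushforward i :=
  (show DCoh.tensorRightMod ((Scheme.Modules.pushforward i).obj (Coh.structureModule Y)) ≅
      (Scheme.Modules.pullback i ⋙ CohTwo.LocFreeExt.tR (Coh.structureModule Y)) ⋙ Scheme.Modules.pushforward i from
    Misc7.ClosedImm.tensorPushIso i (Coh.structureModule Y)) ≪≫
    Functor.isoWhiskerRight (Functor.isoWhiskerLeft _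
      (show CohTwo.LocFreeExt.tR (Coh.structureModule Y) ≅ 𝟭 _ from PicAux.twistUnitIso) ≪≫
        Functor.rightUnitor _) _

theorem preservesFinite_tensorLeft {M : Y.Modules} (hM : FlatMod.IsFinLocFree M) :
    PreservesFiniteLimits ((T Y).obj M) ∧ PreservesFiniteColimits ((T Y).obj M) :=
  ((Functor.exact_tfae ((T Y).obj M)).out 0 3).1
    (DerivedCoh.KFlat.flat_flip_of_isFlat (DerivedCoh.PCoh.isFlat_of_isFinLocFree hM))

variable (hreg : StalkRegular i) (hC : FlatMod.IsFinLocFree (Omega.conormal i)) {M : Y.Modules}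
  (hM : FlatMod.IsFinLocFree M)

include hreg hC hM in
/-- `H^{-q}(i^* G) ≅ M ⊗ Λ^q C` for a K-flat resolution `G` of `i_* M`. -/
theorem nonempty_homology_pull_push (G : CochainComplex X.Modules ℤ) (hG : IsKFlat (T X) G)
    (g : DCoh.toD X G ≅ DCoh.inD X ((Scheme.Modules.pushforward i).obj M)) (q : ℕ) :
    Nonempty (((pullCx i).obj G).homology (-(q : ℤ)) ≅
      ((T Y).obj M).obj (LocFree.extPow q (Omega.conormal i))) := by
  let n : ℤ := -(q : ℤ)
  let F := (Scheme.Modules.pushforward i).obj (Coh.structureModule Y)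
  let N := (Scheme.Modules.pushforward i).obj M
  obtain ⟨E, α, hzero, hflat, hepi, hqiso⟩ := exists_flatCx F
  haveI := hepi
  haveI := hqiso
  haveI := Misc6.DevissageSupp.preservesFiniteLimits_push i
  haveI := Misc6.DevissageSupp.preservesFiniteColimits_push i
  haveI := (preservesFinite_tensorLeft hM).1
  haveI := (preservesFinite_tensorLeft hM).2
  obtain ⟨h⟩ := nonempty_homology_pull hzero hflat α hreg hC q
  have hE := isKFlat_of_flatCx hzero hflat
  haveI := DerivedCoh.KFlat.hasLTensorMod F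
  haveI := DerivedCoh.KFlat.hasLTensorCx_of_isKFlat E hE
  obtain ⟨t⟩ := DerivedCoh.PerfPush.nonempty_ltm_ltcx F E hE α (DCoh.toD X G)
  let e₁ : DCoh.toD X ((tmCx F).obj G) ≅
      DCoh.toD X (tot (T X) ((HomologicalComplex.single X.Modules up 0).obj N) E) :=
    (DerivedCoh.KFlat.ltmQIso F G hG).symm ≪≫ t ≪≫
      (DCoh.LTensorCx E).mapIso (g ≪≫ (DerivedCategory.singleFunctorIsoCompQ X.Modules 0).app N) ≪≫
      DerivedCoh.KFlat.ltcxIso E hE _
  let P := Scheme.Modules.pushforward i
  let a : ((pushCx i).obj ((pullCx i).obj G)).homology n ≅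
      ((pushCx i).obj ((((T Y).obj M).mapHomologicalComplex up).obj ((pullCx i).obj E))).homology n :=
    (homologyFunctor X.Modules up n).mapIso ((NatIso.mapHomologicalComplex (pushTensorRight i) up).app G).symm ≪≫
      (DerivedCoh.KFlat.hdIso _ n).symm ≪≫ (DerivedCategory.homologyFunctor X.Modules n).mapIso e₁ ≪≫
      DerivedCoh.KFlat.hdIso _ n ≪≫
      (homologyFunctor X.Modules up n).mapIso (DerivedCoh.KFlat.totSingleIso (T X) N E ≪≫
        (NatIso.mapHomologicalComplex (pushTensorLeft i M) up).app E)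
  exact ⟨(Misc7.ClosedImm.fullyFaithfulPush i).preimageIso
      (((((pullCx i).obj G).sc n).mapHomologyIso P).symm ≪≫ a ≪≫
      (((((T Y).obj M).mapHomologicalComplex up).obj ((pullCx i).obj E)).sc n).mapHomologyIso P ≪≫
      P.mapIso ((((pullCx i).obj E).sc n).mapHomologyIso ((T Y).obj M) ≪≫ ((T Y).obj M).mapIso h))⟩

end Groth.TorSelf
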