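import Groth.Agent.Calg5.KoszulColon
import Groth.Agent.Syntomic.BaseChange
import Groth.Agent.FlatCxBase.BoundedFlat

/-!
# `Tor_q(A/I, A/I)` receives `q` elements of `I`

For a complex `E` resolving `A ⧸ I` and `x₁, …, x_q ∈ I`, a lift `K(x) → E` of the identity gives a class
`tau x ∈ E_q / (boundaries + I E_q)`, independent of the lift, alternating and multilinear in `x`.
For `E` flat and a Koszul-regular generating sequence of `I` these classes span freely the cycles modulo `I`.
-/

set_option autoImplicit false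
universe u

open Groth.FrobLCI.CE Groth.Calg5.KoszulColon

namespace Groth.TorSelf

variable {A : Type u} [CommRing A] {I : Ideal A} {E : ℕ → Type u} [∀ i, AddCommGroup (E i)]
  [∀ i, Module A (E i)]

/-- `E → A ⧸ I` is a resolution. -/
structure IsRes (d : ∀ i, E (i + 1) →ₗ[A] E i) (ε : E 0 →ₗ[A] A ⧸ I) : Prop where
  surj : Function.Surjective ε
  zero : ∀ v, ε (d 0 v) = 0
  exact0 : ∀ v, ε v = 0 → ∃ w, d 0 w = v
  comp : ∀ i v, d i (d (i + 1) v) = 0
  exact : ∀ i v, d i v = 0 → ∃ w, d (i + 1) w = v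

variable (d : ∀ i, E (i + 1) →ₗ[A] E i) (ε : E 0 →ₗ[A] A ⧸ I)

/-- A map of complexes from the Koszul complex lifting the identity. -/
structure Lift {m : ℕ} (x : Fin m → A) where
  map : ∀ i, (idx m i → A) →ₗ[A] E i
  aug : ∀ v, ε (map 0 v) = Ideal.Quotient.mk I (v (pt m))
  comm : ∀ i v, d i (map (i + 1) v) = map i (Groth.FrobLCI.CE.d x i v)

/-- Boundaries plus `I E`. -/
abbrev bdSub (q : ℕ) : Submodule A (E q) := LinearMap.range (d q) ⊔ I • ⊤

/-- `E_q` modulo boundaries and `I E_q`. -/
abbrev Q (q : ℕ) : Type u := E q ⧸ bdSub (I := I) d q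

variable {d ε}

theorem d_mem_ideal {m : ℕ} {x : Fin m → A} (hx : ∀ j, x j ∈ I) (i : ℕ) (v : idx m (i + 1) → A)
    (j : idx m i) : Groth.FrobLCI.CE.d x i v j ∈ I := by
  have h := d_mem_smul_top (M := A) x i v j
  rw [smul_eq_mul, Ideal.mul_top] at h
  exact Ideal.span_le.2 (Set.range_subset_iff.2 hx) h

theorem mem_smul_pi {ι : Type*} [Fintype ι] {M : Type u} [AddCommGroup M] [Module A M] (f : (ι → A) →ₗ[A] M) {v : ι → A}
    (hv : ∀ j, v j ∈ I) : f v ∈ I • (⊤ : Submodule A M) := by
  classical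
  rw [pi_eq_sum_univ v, map_sum]
  exact Submodule.sum_mem _ fun j _ => by rw [map_smul]; exact Submodule.smul_mem_smul (hv j) trivial

theorem exists_lift (hE : IsRes d ε) {m : ℕ} (x : Fin m → A) (hx : ∀ j, x j ∈ I) :
    Nonempty (Lift d ε x) := by
  obtain ⟨e, he⟩ := hE.surj (Ideal.Quotient.mk I 1)
  let f0 : (idx m 0 → A) →ₗ[A] E 0 := (LinearMap.proj (pt m)).smulRight e
  have haug : ∀ v, ε (f0 v) = Ideal.Quotient.mk I (v (pt m)) := fun v => by
    simp only [f0, LinearMap.coe_smulRight, LinearMap.proj_apply, map_smul, he]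
    rw [← Ideal.Quotient.mk_eq_mk, ← Ideal.Quotient.mk_eq_mk, ← Submodule.Quotient.mk_smul, smul_eq_mul, mul_one]
  -- a map in degree `i + 1` over one in degree `i` which sends boundaries into boundaries
  have key : ∀ i (f : (idx m i → A) →ₗ[A] E i), (∀ v, ∃ w, d i w = f (Groth.FrobLCI.CE.d x i v)) →
      ∃ f' : (idx m (i + 1) → A) →ₗ[A] E (i + 1),
        ∀ v, d i (f' v) = f (Groth.FrobLCI.CE.d x i v) := fun i f hf => by
    choose w hw using fun j : idx m (i + 1) => hf (Pi.single j 1)
    refine ⟨(Pi.basisFun A (idx m (i + 1))).constr A w, fun v => ?_⟩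
    suffices h : (d i).comp ((Pi.basisFun A (idx m (i + 1))).constr A w) = f.comp (dL x i) from
      LinearMap.congr_fun h v
    refine (Pi.basisFun A (idx m (i + 1))).ext fun j => ?_
    rw [LinearMap.comp_apply, Module.Basis.constr_basis, Pi.basisFun_apply]
    exact hw j
  -- the next step
  let Good (i : ℕ) (f : (idx m i → A) →ₗ[A] E i) : Prop := ∀ v, ∃ w, d i w = f (Groth.FrobLCI.CE.d x i v)
  have h0 : Good 0 f0 := fun v => hE.exact0 _ (by
    rw [haug, Ideal.Quotient.eq_zero_iff_mem]
    exact d_mem_ideal hx 0 v (pt m))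
  have hnext : ∀ i (f : { f : (idx m i → A) →ₗ[A] E i // Good i f }),
      ∃ f' : { f' : (idx m (i + 1) → A) →ₗ[A] E (i + 1) // Good (i + 1) f' },
        ∀ v, d i (f'.1 v) = f.1 (Groth.FrobLCI.CE.d x i v) := fun i f => by
    obtain ⟨f', hf'⟩ := key i f.1 f.2
    exact ⟨⟨f', fun v => hE.exact i _ (by rw [hf', d_d, map_zero])⟩, hf'⟩
  choose next hnext using hnext
  let F : ∀ i, { f : (idx m i → A) →ₗ[A] E i // Good i f } := fun i =>
    Nat.rec ⟨f0, h0⟩ (fun i f => next i f) i
  exact ⟨⟨fun i => (F i).1, haug, fun i v => hnext i (F i) v⟩⟩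

/-- Two lifts agree up to boundaries and `I E`. -/
theorem Lift.sub_mem (hE : IsRes d ε) {m : ℕ} {x : Fin m → A} (hx : ∀ j, x j ∈ I) (F G : Lift d ε x)
    (i : ℕ) (v : idx m i → A) : F.map i v - G.map i v ∈ bdSub (I := I) d i := by
  suffices h : ∀ i, ∃ (h : (idx m i → A) →ₗ[A] E (i + 1)) (g : (idx m i → A) →ₗ[A] E i),
      (∀ v, F.map i v - G.map i v = d i (h v) + g v) ∧
      (∀ v, g (Groth.FrobLCI.CE.d x i v) = 0) ∧ ∀ v, g v ∈ I • (⊤ : Submodule A (E i)) by
    obtain ⟨h, g, hfg, -, hg⟩ := h i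
    rw [hfg]
    exact add_mem (Submodule.mem_sup_left ⟨_, rfl⟩) (Submodule.mem_sup_right (hg v))
  intro i
  induction i with
  | zero =>
    have hz : ∀ j : idx m 0, ε (F.map 0 (Pi.single j 1) - G.map 0 (Pi.single j 1)) = 0 := fun j => by
      rw [map_sub, F.aug, G.aug, sub_self]
    choose w hw using fun j => hE.exact0 _ (hz j)
    refine ⟨(Pi.basisFun A (idx m 0)).constr A w, 0, fun v => ?_, fun _ => rfl, fun _ => zero_mem _⟩
    rw [LinearMap.zero_apply, add_zero]
    suffices h : F.map 0 - G.map 0 = (d 0).comp ((Pi.basisFun A (idx m 0)).constr A w) from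
      LinearMap.congr_fun h v
    refine (Pi.basisFun A (idx m 0)).ext fun j => ?_
    rw [LinearMap.comp_apply, Module.Basis.constr_basis, Pi.basisFun_apply]
    exact (hw j).symm
  | succ i ih =>
    obtain ⟨h, g, hfg, hgd, -⟩ := ih
    let δ : (idx m (i + 1) → A) →ₗ[A] E (i + 1) :=
      F.map (i + 1) - G.map (i + 1) - h.comp (dL x i)
    have hδ : ∀ v, d i (δ v) = 0 := fun v => by
      show d i (F.map (i + 1) v - G.map (i + 1) v - h (Groth.FrobLCI.CE.d x i v)) = 0
      rw [map_sub, map_sub, F.comm, G.comm, hfg, hgd, add_zero, sub_self]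
    choose w hw using fun j => hE.exact i _ (hδ (Pi.single j 1))
    refine ⟨(Pi.basisFun A (idx m (i + 1))).constr A w, h.comp (dL x i), fun v => ?_, fun v => ?_,
      fun v => mem_smul_pi h (fun j => d_mem_ideal hx i v j)⟩
    · have e : δ = (d (i + 1)).comp ((Pi.basisFun A (idx m (i + 1))).constr A w) := by
        refine (Pi.basisFun A (idx m (i + 1))).ext fun j => ?_
        rw [LinearMap.comp_apply, Module.Basis.constr_basis, Pi.basisFun_apply]
        exact (hw j).symm
      have := LinearMap.congr_fun e v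
      rw [LinearMap.comp_apply] at this
      rw [← this]
      show _ = F.map (i + 1) v - G.map (i + 1) v - h (Groth.FrobLCI.CE.d x i v) + h (Groth.FrobLCI.CE.d x i v)
      rw [sub_add_cancel]
    · show h (Groth.FrobLCI.CE.d x i (Groth.FrobLCI.CE.d x (i + 1) v)) = 0
      rw [d_d, map_zero]

/-- The basis vector in top degree. -/
theorem single_top (q : ℕ) : (Pi.single (top q) 1 : idx q q → A) = fun _ => 1 :=
  funext fun j => by rw [eq_top q j, Pi.single_eq_same]

variable (d ε) in
open Classical in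
/-- The class of `x₁, …, x_q ∈ I`. -/
noncomputable def tau (q : ℕ) (x : Fin q → A) : Q (I := I) d q :=
  if h : Nonempty (Lift d ε x) then Submodule.Quotient.mk (h.some.map q fun _ => 1) else 0

theorem tau_eq (hE : IsRes d ε) {q : ℕ} {x : Fin q → A} (hx : ∀ j, x j ∈ I) (F : Lift d ε x) :
    tau d ε q x = Submodule.Quotient.mk (F.map q fun _ => 1) := by
  rw [tau, dif_pos ⟨F⟩, Submodule.Quotient.eq]
  exact Lift.sub_mem hE hx _ F q _

/-- Functoriality in the sequence. -/
def Lift.comap {n m : ℕ} {y : Fin n → A} (F : Lift d ε y) (c : Fin m → Fin n → A) (x : Fin m → A)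
    (h : ∀ j, x j = ∑ k, y k * c j k) : Lift d ε x where
  map i := F.map i ∘ₗ Psi c i
  aug v := by rw [LinearMap.comp_apply, F.aug, Psi_zero_apply]
  comm i v := by rw [LinearMap.comp_apply, LinearMap.comp_apply, F.comm, d_Psi y c x h]

theorem tau_eq_of_comb (hE : IsRes d ε) {n q : ℕ} {y : Fin n → A} (F : Lift d ε y)
    {x : Fin q → A} (hx : ∀ j, x j ∈ I) (c : Fin q → Fin n → A) (h : ∀ j, x j = ∑ k, y k * c j k) :
    tau d ε q x = Submodule.Quotient.mk (F.map q (W c)) :=
  tau_eq hE hx (F.comap c x h)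

theorem sum_mul_single {n : ℕ} (y : Fin n → A) (t : Fin n) (r : A) :
    ∑ k, y k * (Pi.single t r : Fin n → A) k = y t * r := by
  rw [Finset.sum_eq_single t (fun k _ hk => by rw [Pi.single_eq_of_ne hk, mul_zero]) (by simp),
    Pi.single_eq_same]

theorem tau_update_lin (hE : IsRes d ε) {q : ℕ} {x : Fin q → A} (hx : ∀ j, x j ∈ I) (a : Fin q)
    {u v : A} (hu : u ∈ I) (hv : v ∈ I) (r : A) :
    tau d ε q (Function.update x a (u + r * v)) =
      tau d ε q (Function.update x a u) + r • tau d ε q (Function.update x a v) := by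
  classical
  let y : Fin (q + 2) → A := Fin.cons u (Fin.cons v x)
  have hy : ∀ k, y k ∈ I := by
    refine Fin.cases hu (fun k => ?_)
    simp only [y, Fin.cons_succ]
    exact Fin.cases hv (fun j => by simpa using hx j) k
  obtain ⟨F⟩ := exists_lift hE y hy
  let c : Fin q → Fin (q + 2) → A := fun j => Pi.single j.succ.succ 1
  have hupd : ∀ (w : A), w ∈ I → ∀ j, Function.update x a w j ∈ I := fun w hw j => by
    rcases eq_or_ne j a with rfl | hj
    · rwa [Function.update_self]
    · rw [Function.update_of_ne hj]; exact hx j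
  have hrow : ∀ (w : A) (ρ : Fin (q + 2) → A), w = ∑ k, y k * ρ k →
      ∀ j, Function.update x a w j = ∑ k, y k * Function.update c a ρ j k := fun w ρ h j => by
    rcases eq_or_ne j a with rfl | hj
    · rw [Function.update_self, Function.update_self, h]
    · rw [Function.update_of_ne hj, Function.update_of_ne hj, sum_mul_single, mul_one]
      simp [y]
  rw [tau_eq_of_comb hE F (hupd _ (add_mem hu (I.mul_mem_left r hv)))
      (Function.update c a (Pi.single 0 1 + r • Pi.single 1 1)) (hrow _ _ (by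
        simp only [Pi.add_apply, Pi.smul_apply, smul_eq_mul, mul_add, Finset.sum_add_distrib,
          mul_left_comm _ r, ← Finset.mul_sum, sum_mul_single, mul_one]
        simp [y])),
    tau_eq_of_comb hE F (hupd _ hu) (Function.update c a (Pi.single 0 1))
      (hrow _ _ (by rw [sum_mul_single, mul_one]; simp [y])),
    tau_eq_of_comb hE F (hupd _ hv) (Function.update c a (Pi.single 1 1))
      (hrow _ _ (by rw [sum_mul_single, mul_one]; simp [y])),
    W_update_add, W_update_smul, map_add, map_smul, Submodule.Quotient.mk_add,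
    Submodule.Quotient.mk_smul]

theorem tau_eq_zero_of_eq (hE : IsRes d ε) {q : ℕ} {x : Fin q → A} (hx : ∀ j, x j ∈ I) {a b : Fin q}
    (h : x a = x b) (hab : a ≠ b) : tau d ε q x = 0 := by
  classical
  obtain ⟨F⟩ := exists_lift hE x hx
  let c : Fin q → Fin q → A := fun j => if j = b then Pi.single a 1 else Pi.single j 1
  have hrow : ∀ j, x j = ∑ k, x k * c j k := fun j => by
    by_cases hj : j = b
    · simp only [c, hj, if_true, sum_mul_single, mul_one, h]
    · simp only [c, hj, if_false, sum_mul_single, mul_one]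
  rw [tau_eq_of_comb hE F hx c hrow, W_eq_zero c a b (by simp [c, hab]) hab, map_zero,
    Submodule.Quotient.mk_zero]

variable (d ε) in
/-- The classes as an alternating map on the ideal. -/
noncomputable def tauAlt (hE : IsRes d ε) (q : ℕ) : ↥I [⋀^Fin q]→ₗ[A] Q (I := I) d q where
  toFun x := tau d ε q fun j => (x j : A)
  map_update_add' := by
    intro inst x a u v
    obtain rfl : inst = instDecidableEqFin q := Subsingleton.elim _ _
    have key : ∀ w : ↥I, (fun j => ((Function.update x a w) j : A)) = Function.update (fun j => (x j : A)) a (w : A) :=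
      fun w => Function.comp_update _ x a w
    have h := tau_update_lin hE (fun j => (x j).2) a u.2 v.2 1
    rw [one_mul, one_smul] at h
    exact ((congrArg (tau d ε q) (key (u + v))).trans h).trans
      (congrArg₂ (· + ·) (congrArg (tau d ε q) (key u)).symm (congrArg (tau d ε q) (key v)).symm)
  map_update_smul' := by
    intro inst x a r u
    obtain rfl : inst = instDecidableEqFin q := Subsingleton.elim _ _
    have key : ∀ w : ↥I, (fun j => ((Function.update x a w) j : A)) = Function.update (fun j => (x j : A)) a (w : A) :=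
      fun w => Function.comp_update _ x a w
    have h0 := tau_update_lin hE (fun j => (x j).2) a (I.zero_mem) (I.zero_mem) 1
    rw [one_smul, mul_zero, add_zero, left_eq_add] at h0
    have h := tau_update_lin hE (fun j => (x j).2) a (I.zero_mem) u.2 r
    rw [zero_add, h0, zero_add] at h
    exact ((congrArg (tau d ε q) (key (r • u))).trans h).trans
      (congrArg (r • ·) (congrArg (tau d ε q) (key u)).symm)
  map_eq_zero_of_eq' x a b h hab := tau_eq_zero_of_eq hE (fun j => (x j).2) (congrArg Subtype.val h) hab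

theorem tauAlt_apply (hE : IsRes d ε) {q : ℕ} (x : Fin q → ↥I) :
    tauAlt d ε hE q x = tau d ε q fun j => (x j : A) := rfl

theorem smul_Q_eq_zero {a : A} (ha : a ∈ I) {q : ℕ} (z : Q (I := I) d q) : a • z = 0 := by
  obtain ⟨v, rfl⟩ := Submodule.Quotient.mk_surjective _ z
  rw [← Submodule.Quotient.mk_smul, Submodule.Quotient.mk_eq_zero]
  exact Submodule.mem_sup_right (Submodule.smul_mem_smul ha trivial)

/-- An entry in `I • I` kills the class. -/
theorem tauAlt_eq_zero_of_mem (hE : IsRes d ε) {q : ℕ} (x : Fin q → ↥I) (a : Fin q)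
    (h : x a ∈ I • (⊤ : Submodule A ↥I)) : tauAlt d ε hE q x = 0 := by
  classical
  let L : ↥I →ₗ[A] Q (I := I) d q := (tauAlt d ε hE q).toMultilinearMap.toLinearMap x a
  have hL : ∀ w ∈ I • (⊤ : Submodule A ↥I), L w = 0 := fun w hw => by
    induction hw using Submodule.smul_induction_on' with
    | smul r hr m _ => rw [map_smul, smul_Q_eq_zero hr]
    | add p _ q _ hp hq => rw [map_add, hp, hq, add_zero]
  have := hL _ h
  simpa [L] using this

/-! ### Naturality -/

theorem ringHom_d_single {A' : Type u} [CommRing A'] (φ : A →+* A') {m : ℕ} (x : Fin m → A) (i : ℕ)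
    (j : idx m (i + 1)) :
    Groth.FrobLCI.CE.d (φ ∘ x) i (Pi.single j 1) = φ ∘ Groth.FrobLCI.CE.d x i (Pi.single j 1) := by
  rw [← d_ringHom]
  congr 1
  funext k
  rw [Function.comp_apply, Pi.single_apply, Pi.single_apply]
  split_ifs <;> simp

section Naturality

variable {A' : Type u} [CommRing A'] {I' : Ideal A'} {E' : ℕ → Type u} [∀ i, AddCommGroup (E' i)]
  [∀ i, Module A' (E' i)] {d' : ∀ i, E' (i + 1) →ₗ[A'] E' i} {ε' : E' 0 →ₗ[A'] A' ⧸ I'}
  (φ : A →+* A') (g : ∀ i, E i →+ E' i)

theorem exists_lift_map (hsmul : ∀ i (a : A) v, g i (a • v) = φ a • g i v)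
    (hd : ∀ i v, g i (d i v) = d' i (g (i + 1) v))
    (hε : ∀ v a, ε v = Ideal.Quotient.mk I a → ε' (g 0 v) = Ideal.Quotient.mk I' (φ a))
    {m : ℕ} {x : Fin m → A} (F : Lift d ε x) :
    ∃ G : Lift d' ε' (φ ∘ x), ∀ i (v : idx m i → A), G.map i (φ ∘ v) = g i (F.map i v) := by
  let G0 : ∀ i, (idx m i → A') →ₗ[A'] E' i := fun i =>
    (Pi.basisFun A' (idx m i)).constr A' fun j => g i (F.map i (Pi.single j 1))
  have hG : ∀ i (v : idx m i → A), G0 i (φ ∘ v) = g i (F.map i v) := fun i v => by
    conv_rhs => rw [pi_eq_sum_univ v]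
    simp only [G0, Module.Basis.constr_apply_fintype, Pi.basisFun_equivFun, LinearEquiv.refl_apply,
      Function.comp_apply, map_sum, map_smul, hsmul]
    refine Finset.sum_congr rfl fun j _ => ?_
    congr 4
    funext k
    rw [Pi.single_apply]
    rcases eq_or_ne k j with rfl | hkj
    · simp
    · simp [hkj, Ne.symm hkj]
  refine ⟨⟨G0, fun v => ?_, fun i v => ?_⟩, hG⟩
  · have h1 : v = v (pt m) • (φ ∘ fun _ : idx m 0 => (1 : A)) := funext fun k => by simp [eq_pt m k]
    conv_lhs => rw [h1]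
    rw [map_smul, map_smul, hG, hε _ 1 (F.aug _), map_one, ← Ideal.Quotient.mk_eq_mk,
      ← Ideal.Quotient.mk_eq_mk, ← Submodule.Quotient.mk_smul, smul_eq_mul, mul_one]
  · suffices h : (d' i).comp (G0 (i + 1)) = (G0 i).comp (dL (φ ∘ x) i) from LinearMap.congr_fun h v
    refine (Pi.basisFun A' (idx m (i + 1))).ext fun j => ?_
    rw [LinearMap.comp_apply, Module.Basis.constr_basis, LinearMap.comp_apply, Pi.basisFun_apply]
    show d' i _ = G0 i (Groth.FrobLCI.CE.d (φ ∘ x) i (Pi.single j 1))
    rw [ringHom_d_single, hG, ← hd, F.comm]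

variable (hII : ∀ a ∈ I, φ a ∈ I') (hsmul : ∀ i (a : A) v, g i (a • v) = φ a • g i v)
  (hd : ∀ i v, g i (d i v) = d' i (g (i + 1) v))

include hII hsmul hd in
theorem map_bdSub {q : ℕ} {v : E q} (hv : v ∈ bdSub (I := I) d q) : g q v ∈ bdSub (I := I') d' q := by
  obtain ⟨a, ⟨w, rfl⟩, b, hb, rfl⟩ := Submodule.mem_sup.1 hv
  rw [map_add]
  refine add_mem (Submodule.mem_sup_left ⟨g (q + 1) w, (hd q w).symm⟩) (Submodule.mem_sup_right ?_)
  clear hv
  induction hb using Submodule.smul_induction_on' with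
  | smul r hr m _ => rw [hsmul]; exact Submodule.smul_mem_smul (hII r hr) trivial
  | add p _ q _ hp hq => rw [map_add]; exact add_mem hp hq

include hII hsmul hd in
/-- The class is natural. -/
theorem exists_tau_map (hE : IsRes d ε) (hE' : IsRes d' ε')
    (hε : ∀ v a, ε v = Ideal.Quotient.mk I a → ε' (g 0 v) = Ideal.Quotient.mk I' (φ a))
    {q : ℕ} {x : Fin q → A} (hx : ∀ j, x j ∈ I) :
    ∃ v, tau d ε q x = Submodule.Quotient.mk v ∧ tau d' ε' q (φ ∘ x) = Submodule.Quotient.mk (g q v) := by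
  obtain ⟨F⟩ := exists_lift hE x hx
  obtain ⟨G, hG⟩ := exists_lift_map φ g hsmul hd hε F
  refine ⟨_, tau_eq hE hx F, (tau_eq hE' (fun j => hII _ (hx j)) G).trans ?_⟩
  rw [← hG]
  congr 2
  funext k
  exact (map_one φ).symm

end Naturality

/-! ### Koszul-regular generators -/

theorem exists_W_eq_single : ∀ (n q : ℕ) (j : idx n q),
    ∃ c : Fin q → Fin n → A, W c = Pi.single j 1 ∧ ∀ a, ∃ k, c a = Pi.single k 1
  | n, 0, j => ⟨Fin.elim0, funext fun k => by
      show Psi (Fin.elim0 : Fin 0 → Fin n → A) 0 (fun _ => 1) k = _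
      rw [Psi_zero_apply, eq_pt n j, eq_pt n k, Pi.single_eq_same], fun a => a.elim0⟩
  | 0, q + 1, j => Empty.elim j
  | n + 1, q + 1, j => by
    have hW0 : ∀ (c : Fin 0 → Fin (n + 1) → A) (c' : Fin 0 → Fin n → A) (k : idx (n + 1) 0),
        W c k = W c' k := fun c c' k => by
      show Psi c 0 (fun _ => 1) k = Psi c' 0 (fun _ => 1) k
      rw [Psi_zero_apply, Psi_zero_apply]
    have hWl : ∀ {r : ℕ} (c : Fin (r + 1) → Fin n → A) (a : idx n r),
        W (fun i => (Fin.cons 0 (c i) : Fin (n + 1) → A)) (Sum.inl a : idx (n + 1) (r + 1)) = 0 := by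
      intro r
      induction r with
      | zero =>
        intro c a
        rw [W_succ, Groth.FrobLCI.TorObs.wedge_zero_inl]
        simp
      | succ r ih =>
        intro c a
        rw [W_succ, Groth.FrobLCI.TorObs.wedge_succ_inl]
        have e : (fun k => W (Fin.tail fun i => (Fin.cons 0 (c i) : Fin (n + 1) → A))
            (Sum.inl k : idx (n + 1) (r + 1))) = 0 := funext fun k => ih (Fin.tail c) k
        rw [e]
        simp only [Fin.cons_zero, zero_mul, Fin.tail_cons, zero_sub, neg_eq_zero]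
        exact congrFun (map_zero (wedgeL (c 0) r)) a
    have hWr : ∀ {r : ℕ} (c : Fin (r + 1) → Fin n → A) (b : idx n (r + 1)),
        W (fun i => (Fin.cons 0 (c i) : Fin (n + 1) → A)) (Sum.inr b : idx (n + 1) (r + 1)) = W c b := by
      intro r
      induction r with
      | zero =>
        intro c b
        rw [W_succ, Groth.FrobLCI.TorObs.wedge_zero_inr, W_succ c]
        simp only [Fin.tail_cons]
        rw [show W (Fin.tail fun i => (Fin.cons 0 (c i) : Fin (n + 1) → A)) = W (Fin.tail c) from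
          funext fun k => hW0 _ _ k]
      | succ r ih =>
        intro c b
        rw [W_succ, Groth.FrobLCI.TorObs.wedge_succ_inr, W_succ c]
        simp only [Fin.tail_cons]
        congr 2
        funext k
        exact ih (Fin.tail c) k
    rcases j with a | b
    · obtain ⟨c, hc, hc'⟩ := exists_W_eq_single n q a
      refine ⟨Fin.cons (Pi.single 0 1) fun i => Fin.cons 0 (c i), ?_, ?_⟩
      · rw [W_succ, Fin.cons_zero, Fin.tail_cons]
        funext k
        cases q with
        | zero =>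
          rcases k with k | k
          · rw [Groth.FrobLCI.TorObs.wedge_zero_inl, Pi.single_eq_same, one_mul, hW0 _ c k, hc, eq_pt n a, eq_pt n k]
            simp
          · rw [Groth.FrobLCI.TorObs.wedge_zero_inr]
            rw [show Fin.tail (Pi.single 0 1 : Fin (n + 1) → A) = 0 from funext fun i => Pi.single_eq_of_ne (Fin.succ_ne_zero i) _]
            have hw0 : ∀ v : idx n 0 → A, Groth.FrobLCI.TorObs.wedge (0 : Fin n → A) 0 v = 0 := fun v => by
              simpa using wedge_smul_left (0 : A) (0 : Fin n → A) 0 v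
            rw [hw0]
            simp
        | succ q =>
          have htl : Fin.tail (Pi.single 0 1 : Fin (n + 1) → A) = 0 :=
            funext fun i => Pi.single_eq_of_ne (Fin.succ_ne_zero i) _
          have hw0 : ∀ i (v : idx n i → A), Groth.FrobLCI.TorObs.wedge (0 : Fin n → A) i v = 0 := fun i v => by
            simpa using wedge_smul_left (0 : A) (0 : Fin n → A) i v
          rcases k with k | k
          · rw [Groth.FrobLCI.TorObs.wedge_succ_inl, htl, hw0]
            simp [hWr, hc, Pi.single_apply]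
          · rw [Groth.FrobLCI.TorObs.wedge_succ_inr, htl, hw0]
            simp
      · refine Fin.cases ⟨0, by simp⟩ fun i => ?_
        obtain ⟨k, hk⟩ := hc' i
        refine ⟨k.succ, ?_⟩
        simp only [Fin.cons_succ]
        funext l
        induction l using Fin.cases with
        | zero => simp [(Fin.succ_ne_zero k).symm]
        | succ l => simp [hk, Pi.single_apply]
    · obtain ⟨c, hc, hc'⟩ := exists_W_eq_single n (q + 1) b
      refine ⟨fun i => Fin.cons 0 (c i), ?_, fun i => ?_⟩
      · funext k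
        rcases k with k | k
        · rw [hWl]; simp
        · rw [hWr, hc]; simp [Pi.single_apply]
      · obtain ⟨k, hk⟩ := hc' i
        refine ⟨k.succ, ?_⟩
        funext l
        induction l using Fin.cases with
        | zero => simp [(Fin.succ_ne_zero k).symm]
        | succ l => simp [hk, Pi.single_apply]

theorem mem_smul_ker {L P : Type u} [AddCommGroup L] [Module A L] [AddCommGroup P] [Module A P]
    [Module.Flat A P] (f : L →ₗ[A] P) (hf : Function.Surjective f) {z : LinearMap.ker f}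
    (h : (z : L) ∈ I • (⊤ : Submodule A L)) : z ∈ I • (⊤ : Submodule A (LinearMap.ker f)) := by
  have hinj := LinearMap.lTensor_injective_of_exact_of_flat f hf _ (LinearMap.ker f).subtype_injective
    (LinearMap.exact_subtype_ker_map f) (A ⧸ I)
  rw [← Submodule.Quotient.mk_eq_zero]
  have key : ∀ (N : Type u) [AddCommGroup N] [Module A N] (m : N),
      (TensorProduct.quotTensorEquivQuotSMul N I) ((Ideal.Quotient.mk I 1) ⊗ₜ[A] m) =
        Submodule.Quotient.mk m := fun N _ _ m => by
    rw [TensorProduct.quotTensorEquivQuotSMul_mk_tmul, one_smul]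
  rw [← key, EmbeddingLike.map_eq_zero_iff]
  refine hinj ?_
  rw [LinearMap.lTensor_tmul, map_zero, Submodule.subtype_apply,
    ← EmbeddingLike.map_eq_zero_iff (f := TensorProduct.quotTensorEquivQuotSMul L I), key,
    Submodule.Quotient.mk_eq_zero]
  exact h

/-- An exact complex of flat modules is exact modulo `I`. -/
theorem exists_mod_of_flat {L₀ : Type u} [AddCommGroup L₀] [Module A L₀] [Module.Flat A L₀] {L : ℕ → Type u}
    [∀ i, AddCommGroup (L i)] [∀ i, Module A (L i)] [∀ i, Module.Flat A (L i)]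
    (D₀ : L 0 →ₗ[A] L₀) (D : ∀ i, L (i + 1) →ₗ[A] L i) (hs : Function.Surjective D₀)
    (h0 : ∀ v, D₀ v = 0 ↔ ∃ w, D 0 w = v) (hD : ∀ i v, D i v = 0 ↔ ∃ w, D (i + 1) w = v) :
    (∀ z, D₀ z ∈ I • (⊤ : Submodule A L₀) → z ∈ LinearMap.range (D 0) ⊔ I • ⊤) ∧
      ∀ i z, D i z ∈ I • (⊤ : Submodule A (L i)) → z ∈ LinearMap.range (D (i + 1)) ⊔ I • ⊤ := by
  let P (i : ℕ) {M : Type u} [AddCommGroup M] [Module A M] (f : L i →ₗ[A] M) : Prop :=
    Module.Flat A (LinearMap.ker f) ∧
      ∀ z : LinearMap.ker f, (z : L i) ∈ I • (⊤ : Submodule A (L i)) → z ∈ I • (⊤ : Submodule A (LinearMap.ker f))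
  have hP0 : P 0 D₀ := ⟨Groth.Syntomic.flat_ker D₀ hs, fun z hz => mem_smul_ker D₀ hs hz⟩
  -- the map onto the previous kernel
  have step : ∀ (i : ℕ) {M : Type u} [AddCommGroup M] [Module A M] (f : L i →ₗ[A] M),
      (∀ v, f v = 0 ↔ ∃ w, D i w = v) → P i f → P (i + 1) (D i) ∧
      ∀ z, D i z ∈ I • (⊤ : Submodule A (L i)) → z ∈ LinearMap.ker (D i) ⊔ I • ⊤ := by
    intro i M _ _ f hf hP
    have := hP.1
    let D' : L (i + 1) →ₗ[A] LinearMap.ker f :=
      (D i).codRestrict _ fun w => LinearMap.mem_ker.2 ((hf _).2 ⟨w, rfl⟩)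
    have hD' : Function.Surjective D' := fun v => by
      obtain ⟨w, hw⟩ := (hf v.1).1 v.2
      exact ⟨w, Subtype.ext hw⟩
    have hker : LinearMap.ker D' = LinearMap.ker (D i) := LinearMap.ker_codRestrict _ _ _
    refine ⟨?_, fun z hz => ?_⟩
    · show Module.Flat A (LinearMap.ker (D i)) ∧ ∀ z : LinearMap.ker (D i), _ → _
      rw [← hker]
      exact ⟨Groth.Syntomic.flat_ker D' hD', fun w hw => mem_smul_ker D' hD' hw⟩
    · have h1 := hP.2 (D' z) hz
      rw [← LinearMap.range_eq_top.2 hD', ← Submodule.map_top, ← Submodule.map_smul''] at h1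
      obtain ⟨z', hz', hzz⟩ := h1
      have : z - z' ∈ LinearMap.ker (D i) := by
        rw [LinearMap.mem_ker, map_sub, sub_eq_zero]
        exact congrArg Subtype.val hzz.symm
      have h2 := Submodule.add_mem_sup this hz'
      rwa [sub_add_cancel] at h2
  have hker : ∀ i, LinearMap.ker (D i) ≤ LinearMap.range (D (i + 1)) := fun i v hv => (hD i v).1 hv
  have hker0 : LinearMap.ker D₀ ≤ LinearMap.range (D 0) := fun v hv => (h0 v).1 hv
  have hall : ∀ i, P (i + 1) (D i) := fun i => by
    induction i with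
    | zero => exact (step 0 D₀ h0 hP0).1
    | succ i ih => exact (step (i + 1) (D i) (hD i) ih).1
  refine ⟨fun z hz => ?_, fun i z hz => sup_le_sup_right (hker i) _ ?_⟩
  · rw [← LinearMap.range_eq_top.2 hs, ← Submodule.map_top, ← Submodule.map_smul''] at hz
    obtain ⟨z', hz', hzz⟩ := hz
    have h1 : z - z' ∈ LinearMap.range (D 0) := hker0 (by rw [LinearMap.mem_ker, map_sub, hzz, sub_self])
    have h2 := Submodule.add_mem_sup h1 hz'
    rwa [sub_add_cancel] at h2
  · cases i with
    | zero => exact (step 0 D₀ h0 hP0).2 z hz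
    | succ i => exact (step (i + 1) (D i) (hD i) (hall i)).2 z hz

section Regular

variable {n : ℕ} {f : Fin n → A} (hf : Ideal.span (Set.range f) = I)
  (hex : ∀ i (v : idx n (i + 1) → A), Groth.FrobLCI.CE.d f i v = 0 →
    ∃ w, Groth.FrobLCI.CE.d f (i + 1) w = v)

include hf in
theorem mem_of_range (i : Fin n) : f i ∈ I := hf ▸ Ideal.subset_span ⟨i, rfl⟩

variable [∀ i, Module.Flat A (E i)]

include hf hex in
/-- Comparison with the Koszul complex of a regular generating sequence, modulo `I`. -/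
theorem lift_mod (hE : IsRes d ε) (F : Lift d ε f) :
    (∀ q (a : idx n q → A), F.map q a ∈ bdSub (I := I) d q → ∀ j, a j ∈ I) ∧
    (∀ v : E 0, ∃ a, v - F.map 0 a ∈ bdSub (I := I) d 0) ∧
    ∀ q (v : E (q + 1)), d q v ∈ I • (⊤ : Submodule A (E q)) →
      ∃ a, v - F.map (q + 1) a ∈ bdSub (I := I) d (q + 1) := by
  have hI : ∀ j, f j ∈ I := mem_of_range hf
  let D₀ : (idx n 0 → A) × E 1 →ₗ[A] E 0 := (F.map 0).coprod (d 0)
  let D : ∀ i, (idx n (i + 1) → A) × E (i + 2) →ₗ[A] (idx n i → A) × E (i + 1) := fun i =>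
    ((-dL f i) ∘ₗ LinearMap.fst A _ _).prod ((F.map (i + 1)).coprod (d (i + 1)))
  have hDapp : ∀ i a w, D i (a, w) = (-Groth.FrobLCI.CE.d f i a, F.map (i + 1) a + d (i + 1) w) :=
    fun _ _ _ => rfl
  have hs : Function.Surjective D₀ := fun v => by
    obtain ⟨r, hr⟩ := Ideal.Quotient.mk_surjective (ε v)
    obtain ⟨w, hw⟩ := hE.exact0 (v - F.map 0 fun _ => r) (by rw [map_sub, F.aug, hr, sub_self])
    exact ⟨(fun _ => r, w), by rw [LinearMap.coprod_apply, hw]; abel⟩
  have h0 : ∀ v, D₀ v = 0 ↔ ∃ w, D 0 w = v := by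
    rintro ⟨a, w⟩
    constructor
    · intro h
      rw [LinearMap.coprod_apply] at h
      have h1 := congrArg ε h
      rw [map_add, F.aug, hE.zero, add_zero, map_zero, Ideal.Quotient.eq_zero_iff_mem, ← hf] at h1
      obtain ⟨b, hb⟩ := exists_d_eq (M := A) f (a (pt n)) (by rwa [smul_eq_mul, Ideal.mul_top])
      have hb' : Groth.FrobLCI.CE.d f 0 b = a := funext fun j => by rw [eq_pt n j, hb]
      obtain ⟨z, hz⟩ := hE.exact 0 (w + F.map 1 b) (by rw [map_add, F.comm, hb', add_comm]; exact h)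
      refine ⟨(-b, z), ?_⟩
      rw [hDapp, map_neg, hz]
      refine Prod.ext ?_ (by simp)
      show -(dL f 0 (-b)) = a
      rw [map_neg, neg_neg]
      exact hb'
    · rintro ⟨⟨b, z⟩, h⟩
      rw [hDapp, Prod.mk.injEq] at h
      rw [LinearMap.coprod_apply, ← h.1, ← h.2, map_neg, map_add, F.comm, hE.comp, add_zero, neg_add_cancel]
  have hD : ∀ i v, D i v = 0 ↔ ∃ w, D (i + 1) w = v := by
    rintro i ⟨a, w⟩
    constructor
    · intro h
      rw [hDapp, Prod.mk_eq_zero, neg_eq_zero] at h
      obtain ⟨b, hb⟩ := hex i a h.1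
      obtain ⟨z, hz⟩ := hE.exact (i + 1) (w + F.map (i + 2) b) (by rw [map_add, F.comm, hb]; exact (add_comm _ _).trans h.2)
      refine ⟨(-b, z), ?_⟩
      rw [hDapp, map_neg, hz]
      refine Prod.ext ?_ (by simp)
      show -(dL f (i + 1) (-b)) = a
      rw [map_neg, neg_neg]
      exact hb
    · rintro ⟨⟨b, z⟩, h⟩
      rw [hDapp, Prod.mk.injEq] at h
      rw [hDapp, ← h.1, ← h.2, map_neg, map_add, F.comm, hE.comp, add_zero, neg_add_cancel]
      show (-(dL f i (-(Groth.FrobLCI.CE.d f (i + 1) b))), (0 : E (i + 1))) = 0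
      rw [map_neg, neg_neg]
      show (Groth.FrobLCI.CE.d f i (Groth.FrobLCI.CE.d f (i + 1) b), (0 : E (i + 1))) = 0
      rw [d_d]
      rfl
  have : ∀ i, Module.Flat A ((idx n i → A) × E (i + 1)) := fun i => Groth.FlatCxBase.flat_of_exact_flat_right (f := LinearMap.inl A _ _) (g := LinearMap.snd A _ _) LinearMap.inl_injective LinearMap.snd_surjective Function.Exact.inl_snd
  obtain ⟨k0, k1⟩ := exists_mod_of_flat (I := I) (L := fun i => (idx n i → A) × E (i + 1)) D₀ D hs h0 hD
  have hfst : ∀ i {v : (idx n i → A) × E (i + 1)}, v ∈ LinearMap.range (D i) ⊔ I • ⊤ → ∀ j, v.1 j ∈ I := by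
    intro i v hv j
    obtain ⟨_, ⟨⟨b, z⟩, rfl⟩, c, hc, rfl⟩ := Submodule.mem_sup.1 hv
    have hc1 : c.1 j ∈ I := by
      have h := Submodule.mem_map_of_mem (f := (LinearMap.proj j).comp (LinearMap.fst A (idx n i → A) (E (i + 1)))) hc
      rw [Submodule.map_smul''] at h
      have h' := Submodule.smul_mono le_rfl le_top h
      rwa [smul_eq_mul, Ideal.mul_top] at h'
    exact add_mem (neg_mem (d_mem_ideal hI i b j)) hc1
  refine ⟨fun q a ha => ?_, fun v => ?_, fun q v hv => ?_⟩
  · obtain ⟨_, ⟨w, rfl⟩, c, hc, e⟩ := Submodule.mem_sup.1 ha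
    have hc' : F.map q a + d q (-w) ∈ I • (⊤ : Submodule A (E q)) := by
      rw [map_neg, ← e]; simpa using hc
    cases q with
    | zero => exact hfst 0 (k0 (a, -w) hc')
    | succ q =>
      refine hfst (q + 1) (k1 q (a, -w) ?_)
      rw [hDapp]
      have h1 : ((-Groth.FrobLCI.CE.d f q a, 0) : (idx n q → A) × E (q + 1)) ∈ I • (⊤ : Submodule A ((idx n q → A) × E (q + 1))) :=
        mem_smul_pi (LinearMap.inl A (idx n q → A) (E (q + 1))) fun j => neg_mem (d_mem_ideal hI q a j)
      have h2 := Submodule.mem_map_of_mem (f := LinearMap.inr A (idx n q → A) (E (q + 1))) hc'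
      rw [Submodule.map_smul''] at h2
      have := add_mem h1 (Submodule.smul_mono le_rfl le_top h2)
      simpa using this
  · obtain ⟨⟨a, w⟩, h⟩ := hs v
    refine ⟨a, Submodule.mem_sup_left ⟨w, ?_⟩⟩
    rw [← h, LinearMap.coprod_apply]
    abel
  · cases q with
    | zero =>
      have := k0 (0, v) (by rw [LinearMap.coprod_apply, map_zero, zero_add]; exact hv)
      obtain ⟨_, ⟨⟨b, z⟩, rfl⟩, c, hc, e⟩ := Submodule.mem_sup.1 this
      refine ⟨b, ?_⟩
      have e2 := congrArg Prod.snd e
      simp only [hDapp, Prod.snd_add] at e2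
      rw [← e2, show F.map 1 b + d 1 z + c.2 - F.map 1 b = d 1 z + c.2 by abel]
      have h2 := Submodule.mem_map_of_mem (f := LinearMap.snd A (idx n 0 → A) (E 1)) hc
      rw [Submodule.map_smul''] at h2
      exact add_mem (Submodule.mem_sup_left ⟨z, rfl⟩) (Submodule.mem_sup_right (Submodule.smul_mono le_rfl le_top h2))
    | succ q =>
      have hm : D q (0, v) ∈ I • (⊤ : Submodule A ((idx n q → A) × E (q + 1))) := by
        have h2 := Submodule.mem_map_of_mem (f := LinearMap.inr A (idx n q → A) (E (q + 1))) hv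
        rw [Submodule.map_smul''] at h2
        have e : D q (0, v) = LinearMap.inr A (idx n q → A) (E (q + 1)) (d (q + 1) v) := by
          rw [hDapp, map_zero, zero_add]
          show (-(dL f q 0), _) = _
          rw [map_zero, neg_zero]
          rfl
        rw [e]
        exact Submodule.smul_mono le_rfl le_top h2
      obtain ⟨_, ⟨⟨b, z⟩, rfl⟩, c, hc, e⟩ := Submodule.mem_sup.1 (k1 q (0, v) hm)
      refine ⟨b, ?_⟩
      have e2 := congrArg Prod.snd e
      simp only [hDapp, Prod.snd_add] at e2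
      rw [← e2, show F.map (q + 2) b + d (q + 2) z + c.2 - F.map (q + 2) b = d (q + 2) z + c.2 by abel]
      have h2 := Submodule.mem_map_of_mem (f := LinearMap.snd A (idx n (q + 1) → A) (E (q + 2))) hc
      rw [Submodule.map_smul''] at h2
      exact add_mem (Submodule.mem_sup_left ⟨z, rfl⟩) (Submodule.mem_sup_right (Submodule.smul_mono le_rfl le_top h2))

omit [∀ i, Module.Flat A (E i)] in
include hf in
/-- The value on a basis vector is the class of a subsequence. -/
theorem exists_tau_eq_single (hE : IsRes d ε) (F : Lift d ε f) (q : ℕ) (j : idx n q) :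
    ∃ x : Fin q → A, (∀ a, x a ∈ I) ∧
      tau d ε q x = Submodule.Quotient.mk (F.map q (Pi.single j 1)) := by
  obtain ⟨c, hc, hc'⟩ := exists_W_eq_single (A := A) n q j
  choose k hk using hc'
  refine ⟨fun a => f (k a), fun a => mem_of_range hf _, ?_⟩
  rw [tau_eq_of_comb hE F (fun a => mem_of_range hf _) c (fun a => by rw [hk, sum_mul_single, mul_one]), hc]

end Regular

theorem card_idx : ∀ n q : ℕ, Fintype.card (idx n q) = n.choose q
  | 0, 0 => rfl
  | 0, q + 1 => rfl
  | n + 1, 0 => by
    rw [Nat.choose_zero_right]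
    exact (card_idx n 0).trans (Nat.choose_zero_right n)
  | n + 1, q + 1 => by
    rw [Nat.choose_succ_succ, ← card_idx n q, ← card_idx n (q + 1)]
    exact Fintype.card_sum

end Groth.TorSelf
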