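import Groth.Agent.TorSelf.Stalk
import Groth.Agent.LocFree.ExtPow
import Groth.Agent.LocFree.Rank

/-!
# The map `Λ^q C → Q_q` of sheaves

The stalkwise classes `tauSt` come from sections, hence define a morphism from the exterior powers of the
conormal sheaf into the pulled-back resolution modulo boundaries; it identifies them with the cycles.
-/

set_option autoImplicit false
universe u

open CategoryTheory CategoryTheory.Limits AlgebraicGeometry TopologicalSpace Opposite Filter
open Groth.FrobLCI.CE Groth.Calg5.KoszulColon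
open Groth.QCohMod (pullGerm pullGerm_germ germ germ_res germ_smul exists_germ stalk_map_germ)
open Groth.PicAux (pullSec res res_ext res_glue app_res)
open scoped Topology

noncomputable section

namespace Groth.TorSelf

variable {X Y : Scheme.{u}}

theorem eventually_germ_eq {Z : Scheme.{u}} (M : Z.Modules) {U : Z.Opens} (s t : Γ(M, U)) (x : Z) (hx : x ∈ U)
    (h : germ M x hx s = germ M x hx t) :
    ∀ᶠ x' in 𝓝 x, ∀ hx' : x' ∈ U, germ M x' hx' s = germ M x' hx' t := by
  obtain ⟨W, hxW, iU, iU', e⟩ := TopCat.Presheaf.germ_eq M.presheaf x hx hx s t h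
  refine eventually_of_mem (W.2.mem_nhds hxW) fun x' hx' hU' => ?_
  rw [← germ_res M (leOfHom iU) x' hx' s, ← germ_res M (leOfHom iU') x' hx' t]
  exact congrArg _ e

theorem eventually_pt_germ_eq {Z : Scheme.{u}} {U : Z.Opens} (s t : Γ(Z, U)) (x : Z) (hx : x ∈ U)
    (h : Z.presheaf.germ U x hx s = Z.presheaf.germ U x hx t) :
    ∀ᶠ x' in 𝓝 x, ∀ hx' : x' ∈ U, Z.presheaf.germ U x' hx' s = Z.presheaf.germ U x' hx' t := by
  obtain ⟨W, hxW, iU, iU', e⟩ := TopCat.Presheaf.germ_eq Z.presheaf x hx hx s t h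
  refine eventually_of_mem (W.2.mem_nhds hxW) fun x' hx' hU' => ?_
  rw [← Z.presheaf.germ_res_apply iU x' hx' s, ← Z.presheaf.germ_res_apply iU' x' hx' t]
  exact congrArg _ e

theorem section_germ_ext {Z : Scheme.{u}} (M : Z.Modules) {U : Z.Opens} {s t : Γ(M, U)}
    (h : ∀ x (hx : x ∈ U), germ M x hx s = germ M x hx t) : s = t :=
  TopCat.Presheaf.section_ext (⟨M.presheaf, M.isSheaf⟩ : TopCat.Sheaf Ab.{u} Z) U s t h

theorem germ_pres {Z : Scheme.{u}} (M : Z.Modules) {U V : Z.Opens} (h : V ≤ U) (x : Z) (hx : x ∈ V) (m : Γ(M, U)) :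
    germ M x hx (res M h m) = germ M x (h hx) m :=
  germ_res M h x hx m

/-- Finitely many germs at one point come from sections over a common open. -/
theorem exists_germs {Z : Scheme.{u}} {ι : Type*} [Finite ι] (M : ι → Z.Modules) (x : Z)
    (v : ∀ j, (M j).presheaf.stalk x) {U₀ : Z.Opens} (hx₀ : x ∈ U₀) :
    ∃ (U : Z.Opens) (_ : U ≤ U₀) (hx : x ∈ U) (s : ∀ j, Γ(M j, U)), ∀ j, germ (M j) x hx (s j) = v j := by
  choose W hW s hs using fun j => exists_germ (M j) x (v j)
  let U : Z.Opens := U₀ ⊓ ⟨⋂ j, (W j : Set Z), isOpen_iInter_of_finite fun j => (W j).2⟩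
  have hle : ∀ j, U ≤ W j := fun j p hp => Set.mem_iInter.1 hp.2 j
  exact ⟨U, inf_le_left, ⟨hx₀, Set.mem_iInter.2 hW⟩, fun j => res (M j) (hle j) (s j), fun j => by
    show germ (M j) x _ (res (M j) (hle j) (s j)) = _; exact (germ_pres _ _ _ _ _).trans (hs j)⟩

variable {i : Y ⟶ X} [IsClosedImmersion i] (R : Resolution i)

/-- The augmentation on germs, as a function. -/
theorem augVal_germ (y : Y) {U : X.Opens} (hy : i y ∈ U) (m : Γ(R.E 0, U)) :
    augVal R y (germ (R.E 0) (i y) hy m) =
      Y.presheaf.germ (i ⁻¹ᵁ U) y hy (show Γ(Y, i ⁻¹ᵁ U) from R.aug.app U m) := by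
  rw [augVal, LinearEquiv.symm_apply_eq, stalkMapₗ_apply, stalk_map_germ, Groth.RefRank.oneEquiv_apply,
    Groth.RefRank.smul_oneGerm]
  exact Groth.CohTwo.pushStalk_germ i (Coh.structureModule Y) y hy _

/-- The stalkwise classes are germs of sections. -/
theorem exists_local_section (q : ℕ) {V : Y.Opens} (e : Fin q → Γ(Omega.conormal i, V)) (y : Y) (hy : y ∈ V) :
    ∃ (W : Y.Opens) (hW : W ≤ V) (_ : y ∈ W) (s : Γ(Qs R q, W)), ∀ y' (hy' : y' ∈ W),
      germ (Qs R q) y' hy' s = tauSt R y' q fun a => germ (Omega.conormal i) y' (hW hy') (e a) := by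
  classical
  choose v hv using fun a => cproj_surjective (i := i) y (germ (Omega.conormal i) y hy (e a))
  obtain ⟨U₀, -, hU₀, k, hk⟩ := exists_germs (fun _ : Fin q => ClSub.idealMod i.ker) (i y) v
    (U₀ := ⊤) trivial
  have hx : ∀ a, idealIncl i y (v a) ∈ stIdeal i y := fun a => (range_idealIncl i y).le ⟨v a, rfl⟩
  obtain ⟨F⟩ := exists_lift (isRes R y) _ hx
  obtain ⟨U, hUU₀, hU, σ', hσ'⟩ := exists_germs (fun p : (n : Fin (q + 1)) × idx q n => R.E p.1) (i y)
    (fun p => F.map p.1 (Pi.single p.2 1)) hU₀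
  have hempty : ∀ {n} (_ : idx q n), n ≤ q := fun {n} j => by
    by_contra hc
    exact (Fintype.card_pos_iff.2 ⟨j⟩).ne' ((card_idx q n).trans (Nat.choose_eq_zero_of_lt (not_le.1 hc)))
  let σ : ∀ n, idx q n → Γ(R.E n, U) := fun n j => σ' ⟨⟨n, Nat.lt_succ_of_le (hempty j)⟩, j⟩
  have hσ : ∀ n j, germ (R.E n) (i y) hU (σ n j) = F.map n (Pi.single j 1) := fun n j => hσ' ⟨⟨n, Nat.lt_succ_of_le (hempty j)⟩, j⟩
  let κ : Fin q → Γ(X, U) := fun a => OmegaSh.idealSect i.ker U (res _ hUU₀ (k a))
  let kg : ∀ x, x ∈ U → Fin q → (ClSub.idealMod i.ker).presheaf.stalk x :=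
    fun x hx a => germ (ClSub.idealMod i.ker) x (hUU₀ hx) (k a)
  have hκ : ∀ y' (h : i y' ∈ U), (fun a => idealIncl i y' (kg (i y') h a)) =
      (X.presheaf.germ U (i y') h).hom ∘ κ := fun y' h => funext fun a => by
    show idealIncl i y' (germ _ (i y') (hUU₀ h) (k a)) = _
    rw [← germ_pres _ hUU₀ (i y') h (k a)]
    exact Groth.RefRank.incl_germ i.ker (i y') h _
  let c : ∀ n, idx q (n + 1) → idx q n → Γ(X, U) := fun n j => Groth.FrobLCI.CE.d κ n (Pi.single j 1)
  have hgsum : ∀ n j x (h : x ∈ U), germ (R.E n) x h (∑ l, c n j l • σ n l) =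
      ∑ l, X.presheaf.germ U x h (c n j l) • germ (R.E n) x h (σ n l) := fun n j x h => by
    rw [map_sum]
    exact Finset.sum_congr rfl fun l _ => germ_smul _ _ _ _ _
  have hd0 : ∀ n j, germ (R.E n) (i y) hU ((R.d n).app U (σ (n + 1) j)) =
      germ (R.E n) (i y) hU (∑ l, c n j l • σ n l) := fun n j => by
    have e1 : germ (R.E n) (i y) hU ((R.d n).app U (σ (n + 1) j)) = dst R y n (germ _ (i y) hU (σ (n + 1) j)) :=
      (RefHull.stalkMapₗ_germ (R.d n) (i y) hU _).symm
    rw [e1, hσ, F.comm, hgsum]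
    have e2 : (fun a => idealIncl i y (v a)) = (X.presheaf.germ U (i y) hU).hom ∘ κ := by
      rw [← hκ y hU]; funext a; exact congrArg _ (hk a).symm
    rw [show Groth.FrobLCI.CE.d (fun a => idealIncl i y (v a)) n (Pi.single j 1) =
        (X.presheaf.germ U (i y) hU).hom ∘ c n j by rw [e2, ringHom_d_single]]
    conv_lhs => rw [pi_eq_sum_univ ((X.presheaf.germ U (i y) hU).hom ∘ c n j)]
    rw [map_sum]
    refine Finset.sum_congr rfl fun l _ => ?_
    rw [map_smul, hσ]
    congr 3
    funext m
    rw [Pi.single_apply]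
    simp only [eq_comm]
  have Ed : ∀ᶠ x in 𝓝 (i y), ∀ p : (n : Fin q) × idx q (n + 1), ∀ h : x ∈ U,
      germ (R.E p.1) x h ((R.d p.1).app U (σ (p.1 + 1) p.2)) =
        germ (R.E p.1) x h (∑ l, c p.1 p.2 l • σ p.1 l) :=
    eventually_all.2 fun p => eventually_germ_eq _ _ _ _ hU (hd0 p.1 p.2)
  let t : Γ(Y, i ⁻¹ᵁ U) := R.aug.app U (σ 0 (pt q))
  have ht : Y.presheaf.germ (i ⁻¹ᵁ U) y hU t = Y.presheaf.germ (i ⁻¹ᵁ U) y hU 1 := by
    rw [map_one, ← augVal_germ R y hU, hσ]
    have h1 := F.aug (Pi.single (pt q) 1)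
    rw [Pi.single_eq_same] at h1
    have h2 := congrArg (quotEquiv i y) h1
    rw [map_one, map_one] at h2
    exact ((quotEquiv i y).apply_symm_apply _).symm.trans h2
  have Ek : ∀ᶠ y' in 𝓝 y, ∀ a, ∀ h : y' ∈ i ⁻¹ᵁ U ⊓ V,
      germ (Omega.conormal i) y' h.2 (e a) = cproj i y' (kg (i y') h.1 a) := by
    refine eventually_all.2 fun a => ?_
    have hpg : ∀ y' (h : i y' ∈ U), cproj i y' (kg (i y') h a) =
        germ (Omega.conormal i) y' h (pullSec i (ClSub.idealMod i.ker) (res _ hUU₀ (k a))) := fun y' h => by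
      show pullGerm i _ y' (germ _ (i y') (hUU₀ h) (k a)) = _
      rw [← germ_pres _ hUU₀ (i y') h (k a)]
      exact pullGerm_germ i _ y' h _
    have h0 := eventually_germ_eq (Omega.conormal i)
      (res _ (inf_le_right : i ⁻¹ᵁ U ⊓ V ≤ V) (e a))
      (res _ (inf_le_left : i ⁻¹ᵁ U ⊓ V ≤ i ⁻¹ᵁ U) (pullSec i (ClSub.idealMod i.ker) (res _ hUU₀ (k a))))
      y ⟨hU, hy⟩ (by
        rw [germ_pres, germ_pres]
        refine Eq.trans ?_ (hpg y hU)
        exact (hv a).symm.trans (congrArg _ (hk a).symm))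
    filter_upwards [h0] with y' hy' h
    have := hy' h
    rw [germ_pres, germ_pres] at this
    exact this.trans (hpg y' h.1).symm
  obtain ⟨W₀, hW₀, hW₀o, hyW₀⟩ := eventually_nhds_iff.1
    ((i.continuous.continuousAt.eventually Ed).and ((eventually_pt_germ_eq t 1 y hU ht).and Ek))
  let W : Y.Opens := ⟨W₀, hW₀o⟩ ⊓ (i ⁻¹ᵁ U ⊓ V)
  have hWU : W ≤ i ⁻¹ᵁ U := fun p hp => hp.2.1
  have hWV : W ≤ V := fun p hp => hp.2.2
  refine ⟨W, hWV, ⟨hyW₀, hU, hy⟩,
    res _ hWU ((qproj R q).app (i ⁻¹ᵁ U) (pullSec i (R.E q) (σ q (top q)))), fun y' hy' => ?_⟩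
  obtain ⟨hEd, hEt, hEk⟩ := hW₀ y' hy'.1
  have hU' : i y' ∈ U := hy'.2.1
  rw [tauSt_eq R y' q _ (kg (i y') hU') fun a => (hEk a hy'.2).symm]
  let φ := (X.presheaf.germ U (i y') hU').hom
  let G : ∀ n, (idx q n → X.presheaf.stalk (i y')) →ₗ[X.presheaf.stalk (i y')] Est R y' n := fun n =>
    (Pi.basisFun _ _).constr (X.presheaf.stalk (i y')) fun j => germ (R.E n) (i y') hU' (σ n j)
  have hG : ∀ n j, G n (Pi.single j 1) = germ (R.E n) (i y') hU' (σ n j) := fun n j => by
    rw [← Pi.basisFun_apply, Module.Basis.constr_basis]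
  let L : Lift (dst R y') (εst R y') fun a => idealIncl i y' (kg (i y') hU' a) :=
    { map := G
      aug := fun w => by
        have h1 : w = w (pt q) • Pi.single (pt q) 1 := funext fun l => by simp [eq_pt q l]
        have h2 : εst R y' (germ (R.E 0) (i y') hU' (σ 0 (pt q))) = Ideal.Quotient.mk _ 1 := by
          apply (quotEquiv i y').injective
          show quotEquiv i y' ((quotEquiv i y').symm _) = _
          rw [RingEquiv.apply_symm_apply, augVal_germ, map_one, map_one]
          exact (hEt hU').trans (map_one _)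
        conv_lhs => rw [h1]
        rw [map_smul, hG, map_smul, h2, ← Ideal.Quotient.mk_eq_mk, ← Ideal.Quotient.mk_eq_mk,
          ← Submodule.Quotient.mk_smul, smul_eq_mul, mul_one]
      comm := fun n w => by
        suffices h : (dst R y' n).comp (G (n + 1)) =
            (G n).comp (dL (fun a => idealIncl i y' (kg (i y') hU' a)) n) from LinearMap.congr_fun h w
        refine (Pi.basisFun _ _).ext fun j => ?_
        have hn : n < q := hempty j
        rw [LinearMap.comp_apply, LinearMap.comp_apply, Pi.basisFun_apply, hG]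
        show _ = G n (Groth.FrobLCI.CE.d (fun a => idealIncl i y' (kg (i y') hU' a)) n (Pi.single j 1))
        rw [hκ y' hU', ringHom_d_single, show φ ∘ c n j = fun l => φ (c n j l) from rfl,
          show (fun l => φ (c n j l)) = ∑ l, φ (c n j l) • (Pi.single l 1 : idx q n → _) from by
            funext m; simp [Pi.single_apply], map_sum]
        simp only [map_smul, hG]
        refine (RefHull.stalkMapₗ_germ (R.d n) (i y') hU' _).trans ?_
        exact (hEd ⟨⟨n, hn⟩, j⟩ hU').trans (hgsum n j (i y') hU') }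
  rw [tauLift_eq R y' q _ L, ← single_top q]
  show _ = qbar R y' q (G q (Pi.single (top q) 1))
  rw [hG, germ_pres, qbar_apply, pullGerm_germ]
  exact (RefHull.stalkMapₗ_germ _ _ _ _).symm

theorem existsUnique_section (q : ℕ) {V : Y.Opens} (e : Fin q → Γ(Omega.conormal i, V)) :
    ∃ s : Γ(Qs R q, V), ∀ y (hy : y ∈ V),
      germ (Qs R q) y hy s = tauSt R y q fun a => germ (Omega.conormal i) y hy (e a) := by
  choose W hW hyW s hs using fun y : V => exists_local_section R q e y.1 y.2
  obtain ⟨g, hg, -⟩ := res_glue W hW (fun y hy => Opens.mem_iSup.2 ⟨⟨y, hy⟩, hyW _⟩) s (fun a b => by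
    refine section_germ_ext _ fun y hy => ?_
    rw [germ_pres, germ_pres, hs a y hy.1, hs b y hy.2])
  refine ⟨g, fun y hy => ?_⟩
  rw [← germ_pres (Qs R q) (hW ⟨y, hy⟩) y (hyW _) g, hg, hs]

/-- The class of a family of sections. -/
def tauSec (q : ℕ) (V : Y.Opens) :
    Γ(Omega.conormal i, V) [⋀^Fin q]→ₗ[Γ(Y, V)] Γ(Qs R q, V) where
  toFun e := (existsUnique_section R q e).choose
  map_update_add' := by
    intro _ e a u w
    refine section_germ_ext _ fun y hy => ?_
    rw [map_add]
    simp only [(existsUnique_section R q _).choose_spec y hy]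
    rw [show (fun b => germ (Omega.conormal i) y hy (Function.update e a (u + w) b)) = _ from
        Function.comp_update (germ (Omega.conormal i) y hy) e a (u + w), map_add,
      AlternatingMap.map_update_add,
      show (fun b => germ (Omega.conormal i) y hy (Function.update e a u b)) = _ from
        Function.comp_update (germ (Omega.conormal i) y hy) e a u,
      show (fun b => germ (Omega.conormal i) y hy (Function.update e a w b)) = _ from
        Function.comp_update (germ (Omega.conormal i) y hy) e a w]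
  map_update_smul' := by
    intro _ e a r u
    refine section_germ_ext _ fun y hy => ?_
    rw [germ_smul]
    simp only [(existsUnique_section R q _).choose_spec y hy]
    rw [show (fun b => germ (Omega.conormal i) y hy (Function.update e a (r • u) b)) = _ from
        Function.comp_update (germ (Omega.conormal i) y hy) e a (r • u), germ_smul,
      AlternatingMap.map_update_smul,
      show (fun b => germ (Omega.conormal i) y hy (Function.update e a u b)) = _ from
        Function.comp_update (germ (Omega.conormal i) y hy) e a u]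
  map_eq_zero_of_eq' e a b h hab := by
    refine section_germ_ext _ fun y hy => ?_
    rw [map_zero]
    refine ((existsUnique_section R q _).choose_spec y hy).trans ?_
    exact AlternatingMap.map_eq_zero_of_eq _ _ (congrArg (germ (Omega.conormal i) y hy) h) hab

theorem germ_tauSec (q : ℕ) {V : Y.Opens} (e : Fin q → Γ(Omega.conormal i, V)) (y : Y) (hy : y ∈ V) :
    germ (Qs R q) y hy (tauSec R q V e) = tauSt R y q fun a => germ (Omega.conormal i) y hy (e a) :=
  (existsUnique_section R q e).choose_spec y hy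

/-- The map on the presheaf of exterior powers. -/
def tauPre (q : ℕ) : LocFree.extPre q (Omega.conormal i) ⟶ (Qs R q).val where
  app U := ModuleCat.ofHom
    (R := Y.ringCatSheaf.obj.obj U) (X := LocFree.ESec q (Omega.conormal i) U.unop) (Y := (Qs R q).val.obj U)
    { toFun := exteriorPower.alternatingMapLinearEquiv (tauSec R q U.unop)
      map_add' := map_add (exteriorPower.alternatingMapLinearEquiv (tauSec R q U.unop))
      map_smul' := map_smul (exteriorPower.alternatingMapLinearEquiv (tauSec R q U.unop)) }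
  naturality {U V} j := by
    ext x
    show exteriorPower.alternatingMapLinearEquiv (tauSec R q V.unop)
        (LocFree.extRes q (Omega.conormal i) j.unop.le x) =
      res (Qs R q) j.unop.le (exteriorPower.alternatingMapLinearEquiv (tauSec R q U.unop) x)
    induction x using LocFree.esec_induction with
    | wedge e =>
      rw [LocFree.extRes_ewedge]
      show exteriorPower.alternatingMapLinearEquiv _ (exteriorPower.ιMulti _ _ _) =
        res _ _ (exteriorPower.alternatingMapLinearEquiv _ (exteriorPower.ιMulti _ _ _))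
      rw [exteriorPower.alternatingMapLinearEquiv_apply_ιMulti,
        exteriorPower.alternatingMapLinearEquiv_apply_ιMulti]
      refine section_germ_ext _ fun y hy => ?_
      rw [germ_pres, germ_tauSec, germ_tauSec]
      simp only [germ_pres]
    | zero => rw [map_zero, map_zero, map_zero, Groth.PicAux.res_zero]
    | add a b ha hb => rw [map_add, map_add, ha, hb, map_add, Groth.PicAux.res_add]
    | smul r a ha => rw [map_smulₛₗ, map_smul, ha, map_smul, Groth.PicAux.res_smul]

/-- The canonical map `Λ^q C → Qs q`. -/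
def theta (q : ℕ) : LocFree.extPow q (Omega.conormal i) ⟶ Qs R q :=
  (LocFree.exists_hom_sheafify _ (tauPre R q)).choose

theorem theta_wedge (q : ℕ) {V : Y.Opens} (e : Fin q → Γ(Omega.conormal i, V)) :
    (theta R q).app V (LocFree.wedge q (Omega.conormal i) e) = tauSec R q V e :=
  Eq.trans (b := exteriorPower.alternatingMapLinearEquiv (tauSec R q V) (LocFree.ewedge q (Omega.conormal i) e))
    ((LocFree.exists_hom_sheafify _ (tauPre R q)).choose_spec V _)
    (exteriorPower.alternatingMapLinearEquiv_apply_ιMulti (tauSec R q V) e)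

theorem theta_qdesc (q : ℕ) : theta R (q + 1) ≫ qdesc R q = 0 := by
  refine LocFree.sheafify_hom_ext _ fun U p => ?_
  show (qdesc R q).app U ((theta R (q + 1)).app U (LocFree.extUnit (q + 1) (Omega.conormal i) U p)) = 0
  induction p using LocFree.esec_induction with
  | wedge e =>
    rw [show LocFree.extUnit (q + 1) (Omega.conormal i) U (LocFree.ewedge _ _ e) = LocFree.wedge _ _ e from rfl,
      theta_wedge]
    refine section_germ_ext _ fun y hy => ?_
    rw [← RefHull.stalkMapₗ_germ]
    erw [germ_tauSec, qdesc_tauSt, map_zero]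
  | zero => rw [map_zero, map_zero, map_zero]
  | add a b ha hb => rw [map_add, map_add, map_add, ha, hb, add_zero]
  | smul r a ha => rw [map_smul, Scheme.Modules.Hom.app_smul, Scheme.Modules.Hom.app_smul, ha, smul_zero]

/-- Every class is a value of `theta`. -/
theorem tauSt_mem_range (y : Y) (q : ℕ) (c : Fin q → Cst i y) :
    tauSt R y q c ∈ LinearMap.range (RefHull.stalkMapₗ (theta R q) y) := by
  obtain ⟨V, -, hy, e, he⟩ := exists_germs (fun _ : Fin q => Omega.conormal i) y c (U₀ := ⊤) trivial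
  refine ⟨germ _ y hy (LocFree.wedge q (Omega.conormal i) e), ?_⟩
  erw [RefHull.stalkMapₗ_germ]
  rw [theta_wedge]
  erw [germ_tauSec]
  exact congrArg _ (funext he)

/-- Koszul-regular generators of the ideal at every point. -/
def StalkRegular (i : Y ⟶ X) [IsClosedImmersion i] : Prop :=
  ∀ y : Y, ∃ (n : ℕ) (f : Fin n → X.presheaf.stalk (i y)), Ideal.span (Set.range f) = stIdeal i y ∧
    ∀ m (v : idx n (m + 1) → X.presheaf.stalk (i y)), Groth.FrobLCI.CE.d f m v = 0 →
      ∃ w, Groth.FrobLCI.CE.d f (m + 1) w = v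

theorem cproj_smul (y : Y) (a : X.presheaf.stalk (i y)) (v : (ClSub.idealMod i.ker).presheaf.stalk (i y)) :
    cproj i y (a • v) = (i.stalkMap y).hom a • cproj i y v :=
  Groth.QCohMod.pullGerm_smul i _ y a v

/-- The conormal stalk is generated by the classes of generators of the ideal. -/
theorem exists_span_cproj (y : Y) {n : ℕ} (f : Fin n → X.presheaf.stalk (i y))
    (hf : Ideal.span (Set.range f) = stIdeal i y) :
    ∃ g : (Fin n → Y.presheaf.stalk y) →ₗ[Y.presheaf.stalk y] Cst i y, Function.Surjective g := by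
  choose w hw using fun k => (range_idealIncl i y).ge (mem_of_range hf k)
  refine ⟨(Pi.basisFun _ _).constr (Y.presheaf.stalk y) fun k => cproj i y (w k), fun c => ?_⟩
  obtain ⟨v, rfl⟩ := cproj_surjective (i := i) y c
  have hv : idealIncl i y v ∈ Ideal.span (Set.range f) := hf ▸ (range_idealIncl i y).le ⟨v, rfl⟩
  obtain ⟨a, ha⟩ := Ideal.mem_span_range_iff_exists_fun.1 hv
  have e : v = ∑ k, a k • w k := idealIncl_injective i y (by
    rw [map_sum, ← ha]; exact Finset.sum_congr rfl fun k _ => by rw [map_smul, hw, smul_eq_mul])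
  refine ⟨fun k => (i.stalkMap y).hom (a k), ?_⟩
  rw [e, map_sum, Module.Basis.constr_apply_fintype]
  exact Finset.sum_congr rfl fun k _ => (cproj_smul y (a k) (w k)).symm

variable (hC : FlatMod.IsFinLocFree (Omega.conormal i))

include hC in
theorem exists_ext_stalk_basis (y : Y) {n : ℕ} (g : (Fin n → Y.presheaf.stalk y) →ₗ[Y.presheaf.stalk y] Cst i y)
    (hg : Function.Surjective g) (q : ℕ) : ∃ m, m ≤ n.choose q ∧
      Nonempty (Module.Basis (Fin m) (Y.presheaf.stalk y)
        ((LocFree.extPow q (Omega.conormal i)).presheaf.stalk y)) := by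
  have := KTheory.LocFree.isQCoh hC
  have := LocFree.isQCoh_extPow q (Omega.conormal i)
  obtain ⟨V, m, s, hyV, hs⟩ := KTheory.LocFree.isFinLocFree_iff.1 hC y
  obtain ⟨_, ⟨U, hU, rfl⟩, hyU, hUV⟩ := Y.isBasis_affineOpens.exists_subset_of_mem_open hyV V.2
  obtain ⟨t, ht⟩ := LocFree.exists_basis'_extPow hU (Groth.PicAux.Basis'.res' hs hUV) q
  obtain ⟨b₁⟩ := LocFree.nonempty_stalk_basis hs hyV
  refine ⟨m.choose q, Nat.choose_le_choose q ?_, LocFree.nonempty_stalk_basis ht hyU⟩
  exact le_of_fin_surjective (Y.presheaf.stalk y) (b₁.equivFun.toLinearMap ∘ₗ g) (b₁.equivFun.surjective.comp hg)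

/-- A map onto a free module from a free module of at most the same rank is injective. -/
theorem injective_onto_free {B : Type u} [CommRing B] {M K : Type u} [AddCommGroup M] [Module B M]
    [AddCommGroup K] [Module B K] {ι : Type*} [Fintype ι] (e : (ι → B) ≃ₗ[B] K) {m : ℕ}
    (b : Module.Basis (Fin m) B M) (hm : m ≤ Fintype.card ι) (f : M →ₗ[B] K) (hf : Function.Surjective f) :
    Function.Injective f := by
  have : Module.Finite B K := Module.Finite.equiv e
  let j : Fin m → ι := fun a => (Fintype.equivFin ι).symm (Fin.castLE hm a)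
  have hj : Function.Injective j := (Fintype.equivFin ι).symm.injective.comp (Fin.castLE_injective hm)
  exact OrzechProperty.injective_of_surjective_of_injective
    (e.toLinearMap ∘ₗ Function.ExtendByZero.linearMap B j ∘ₗ b.equivFun.toLinearMap) f
    (e.injective.comp (((Function.extend_injective hj _)).comp b.equivFun.injective)) hf

section Stalk

variable (y : Y) {n : ℕ} {f : Fin n → X.presheaf.stalk (i y)} (hf : Ideal.span (Set.range f) = stIdeal i y)
  (hex : ∀ m (v : idx n (m + 1) → X.presheaf.stalk (i y)), Groth.FrobLCI.CE.d f m v = 0 →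
    ∃ w, Groth.FrobLCI.CE.d f (m + 1) w = v) (F : Lift (dst R y) (εst R y) f)

/-- The classes of the Koszul basis. -/
def beta (q : ℕ) : (idx n q → Y.presheaf.stalk y) →ₗ[Y.presheaf.stalk y] (Qs R q).presheaf.stalk y :=
  (Pi.basisFun _ _).constr (Y.presheaf.stalk y) fun j => qbar R y q (F.map q (Pi.single j 1))

theorem beta_comp (q : ℕ) (a : idx n q → X.presheaf.stalk (i y)) :
    beta R y F q ((i.stalkMap y).hom ∘ a) = qbar R y q (F.map q a) := by
  conv_rhs => rw [pi_eq_sum_univ a]
  rw [beta, Module.Basis.constr_apply_fintype, map_sum, map_sum]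
  refine Finset.sum_congr rfl fun j _ => ?_
  rw [map_smul, qbar_smul]
  simp only [Pi.basisFun_equivFun, LinearEquiv.refl_apply, Function.comp_apply]
  congr 3
  funext k
  rw [Pi.single_apply]
  simp only [eq_comm]

include hf hex in
theorem beta_injective (q : ℕ) : Function.Injective (beta R y F q) := by
  have := fun m => R.flat m (i y)
  refine (injective_iff_map_eq_zero _).2 fun b hb => ?_
  choose a ha using fun j => i.stalkMap_surjective y (b j)
  have e : (i.stalkMap y).hom ∘ a = b := funext ha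
  rw [← e, beta_comp, qbar_eq_zero_iff] at hb
  have h := (lift_mod (I := stIdeal i y) hf hex (isRes R y) F).1 q a hb
  funext j
  exact (ha j).symm.trans (RingHom.mem_ker.1 (h j))

include hf in
theorem range_beta_le (q : ℕ) :
    LinearMap.range (beta R y F q) ≤ LinearMap.range (RefHull.stalkMapₗ (theta R q) y) := by
  rw [beta, Module.Basis.constr_range, Submodule.span_le, Set.range_subset_iff]
  intro j
  obtain ⟨x, hx, hxe⟩ := exists_tau_eq_single (I := stIdeal i y) hf (isRes R y) F q j
  choose v hv using fun a => (range_idealIncl i y).ge (hx a)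
  have e : tauSt R y q (fun a => cproj i y (v a)) = qbar R y q (F.map q (Pi.single j 1)) := by
    rw [tauSt_eq R y q _ v fun a => rfl, tauLift, ← qhat_mk, ← hxe]
    rw [tauAlt_apply]
    exact congrArg (qhat R y q) (congrArg (tau (dst R y) (εst R y) q) (funext hv))
  exact e ▸ tauSt_mem_range R y q _

include hf hex in
theorem mem_range_beta_zero (z : (Qs R 0).presheaf.stalk y) : z ∈ LinearMap.range (beta R y F 0) := by
  have := fun m => R.flat m (i y)
  obtain ⟨v, rfl⟩ := qbar_surjective R y 0 z
  obtain ⟨a, ha⟩ := (lift_mod (I := stIdeal i y) hf hex (isRes R y) F).2.1 v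
  refine ⟨(i.stalkMap y).hom ∘ a, ?_⟩
  rw [beta_comp, eq_comm, ← sub_eq_zero, ← map_sub, qbar_eq_zero_iff]
  exact ha

include hf hex in
theorem mem_range_beta_succ (q : ℕ) (z : (Qs R (q + 1)).presheaf.stalk y)
    (hz : RefHull.stalkMapₗ (qdesc R q) y z = 0) : z ∈ LinearMap.range (beta R y F (q + 1)) := by
  have := fun m => R.flat m (i y)
  obtain ⟨v, rfl⟩ := qbar_surjective R y (q + 1) z
  rw [qdesc_qbar, pullGerm_eq_zero_iff] at hz
  obtain ⟨a, ha⟩ := (lift_mod (I := stIdeal i y) hf hex (isRes R y) F).2.2 q v hz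
  refine ⟨(i.stalkMap y).hom ∘ a, ?_⟩
  rw [beta_comp, eq_comm, ← sub_eq_zero, ← map_sub, qbar_eq_zero_iff]
  exact ha

end Stalk

theorem qdesc_theta_stalk (q : ℕ) (y : Y) (w : (LocFree.extPow (q + 1) (Omega.conormal i)).presheaf.stalk y) :
    RefHull.stalkMapₗ (qdesc R q) y (RefHull.stalkMapₗ (theta R (q + 1)) y w) = 0 := by
  rw [← stalkMapₗ_comp_apply, theta_qdesc, stalkMapₗ_zero_apply]

variable (hreg : StalkRegular i)

include hreg in
theorem theta_stalk_surjective_zero (y : Y) : Function.Surjective (RefHull.stalkMapₗ (theta R 0) y) := fun z => by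
  obtain ⟨n, f, hf, hex⟩ := hreg y
  obtain ⟨F⟩ := exists_lift (isRes R y) f (mem_of_range hf)
  exact range_beta_le R y hf F 0 (mem_range_beta_zero R y hf hex F z)

include hreg in
theorem theta_stalk_surjective_succ (q : ℕ) (y : Y) (z : (Qs R (q + 1)).presheaf.stalk y)
    (hz : RefHull.stalkMapₗ (qdesc R q) y z = 0) : ∃ w, RefHull.stalkMapₗ (theta R (q + 1)) y w = z := by
  obtain ⟨n, f, hf, hex⟩ := hreg y
  obtain ⟨F⟩ := exists_lift (isRes R y) f (mem_of_range hf)
  exact range_beta_le R y hf F (q + 1) (mem_range_beta_succ R y hf hex F q z hz)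

include hreg hC in
theorem theta_stalk_injective (q : ℕ) (y : Y) : Function.Injective (RefHull.stalkMapₗ (theta R q) y) := by
  classical
  obtain ⟨n, f, hf, hex⟩ := hreg y
  obtain ⟨F⟩ := exists_lift (isRes R y) f (mem_of_range hf)
  obtain ⟨g, hg⟩ := exists_span_cproj y f hf
  obtain ⟨m, hm, ⟨b⟩⟩ := exists_ext_stalk_basis hC y g hg q
  have hle : LinearMap.range (RefHull.stalkMapₗ (theta R q) y) = LinearMap.range (beta R y F q) := by
    refine le_antisymm ?_ (range_beta_le R y hf F q)
    rintro _ ⟨w, rfl⟩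
    cases q with
    | zero => exact mem_range_beta_zero R y hf hex F _
    | succ q => exact mem_range_beta_succ R y hf hex F q _ (qdesc_theta_stalk R q y w)
  let e : (idx n q → Y.presheaf.stalk y) ≃ₗ[Y.presheaf.stalk y]
      LinearMap.range (RefHull.stalkMapₗ (theta R q) y) :=
    (LinearEquiv.ofInjective _ (beta_injective R y hf hex F q)).trans (LinearEquiv.ofEq _ _ hle.symm)
  have h := injective_onto_free e b (hm.trans_eq (card_idx n q).symm)
    (RefHull.stalkMapₗ (theta R q) y).rangeRestrict (LinearMap.surjective_rangeRestrict _)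
  exact fun w w' hw => h (Subtype.ext hw)

include hreg hC in
/-- `Λ^0 C = Q_0`. -/
theorem nonempty_iso_zero : Nonempty (LocFree.extPow 0 (Omega.conormal i) ≅ Qs R 0) := by
  have := (Groth.QCohMod.mono_iff_stalk (theta R 0)).2 fun y => theta_stalk_injective R hC hreg 0 y
  have := (Groth.QCohMod.epi_iff_stalk (theta R 0)).2 fun y => theta_stalk_surjective_zero R hreg y
  have : IsIso (theta R 0) := isIso_of_mono_of_epi _
  exact ⟨asIso (theta R 0)⟩

include hreg hC in
/-- `Λ^{q+1} C` is the kernel of `Q_{q+1} → E_q|_Y`. -/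
theorem nonempty_iso_succ (q : ℕ) :
    Nonempty (LocFree.extPow (q + 1) (Omega.conormal i) ≅ kernel (qdesc R q)) := by
  let θ := kernel.lift (qdesc R q) (theta R (q + 1)) (theta_qdesc R q)
  have hθ : θ ≫ kernel.ι (qdesc R q) = theta R (q + 1) := kernel.lift_ι _ _ _
  have hinj : ∀ y, Function.Injective (RefHull.stalkMapₗ (kernel.ι (qdesc R q)) y) := fun y =>
    (Groth.QCohMod.mono_iff_stalk (kernel.ι (qdesc R q))).1 inferInstance y
  have := (Groth.QCohMod.mono_iff_stalk θ).2 fun y => fun w w' h =>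
    theta_stalk_injective R hC hreg (q + 1) y (by
      rw [← hθ, stalkMapₗ_comp_apply, stalkMapₗ_comp_apply]
      exact congrArg _ h)
  have := (Groth.QCohMod.epi_iff_stalk θ).2 fun y => fun z => by
    obtain ⟨w, hw⟩ := theta_stalk_surjective_succ R hreg q y
      (RefHull.stalkMapₗ (kernel.ι (qdesc R q)) y z)
      (by rw [← stalkMapₗ_comp_apply, kernel.condition, stalkMapₗ_zero_apply])
    exact ⟨w, hinj y (by rw [← hw, ← hθ, stalkMapₗ_comp_apply]; rfl)⟩
  have : IsIso θ := isIso_of_mono_of_epi _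
  exact ⟨asIso θ⟩

end Groth.TorSelf
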