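import Groth.Agent.TorSelf.Algebra
import Groth.Agent.QCohMod.Pullback
import Groth.Agent.CohTwo.PushClosed
import Groth.Agent.KTheory.PushRes
import Groth.Agent.Calg6.ClosedImmStalk
import Groth.Agent.RefRank.DivSheaf
import Groth.Agent.OmegaSheaf.IdealMod
import Groth.Prelude.Def_Omega2

/-!
# Self-Tor of a closed immersion on stalks

`Resolution i`: a resolution of `i_* O_Y` with flat stalks; `Qs`: cokernels of the pulled-back differentials;
`tauSt`: the alternating map `C_y^q → (Qs_q)_y`.
-/

set_option autoImplicit false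
universe u

open CategoryTheory CategoryTheory.Limits AlgebraicGeometry TopologicalSpace TensorProduct

noncomputable section

namespace Groth.TorSelf

open Groth.QCohMod (pullGerm pullGerm_germ pullGerm_smul pullStalkHom pullStalkHom_bijective pullStalkHom_tmul stalkAlg germ exists_germ stalk_map_germ)

variable {X Y : Scheme.{u}}

theorem stalkMapₗ_apply {M N : X.Modules} (φ : M ⟶ N) (x : X) (v : M.presheaf.stalk x) :
    RefHull.stalkMapₗ φ x v = (Groth.QCohMod.stalk x).map φ v := rfl

theorem stalkMapₗ_comp_apply {M N P : X.Modules} (φ : M ⟶ N) (ψ : N ⟶ P) (x : X) (v : M.presheaf.stalk x) :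
    RefHull.stalkMapₗ (φ ≫ ψ) x v = RefHull.stalkMapₗ ψ x (RefHull.stalkMapₗ φ x v) := by
  simp only [stalkMapₗ_apply]
  rw [Functor.map_comp]
  rfl

theorem stalkMapₗ_zero_apply {M N : X.Modules} (x : X) (v : M.presheaf.stalk x) :
    RefHull.stalkMapₗ (0 : M ⟶ N) x v = 0 := by
  simp only [stalkMapₗ_apply]
  rw [Functor.map_zero]
  rfl

variable (i : Y ⟶ X) [IsClosedImmersion i]

/-- The ideal of `Y` at `i y`. -/
abbrev stIdeal (y : Y) : Ideal (X.presheaf.stalk (i y)) := RingHom.ker (i.stalkMap y).hom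

/-- `A ⧸ J = B`. -/
def quotEquiv (y : Y) : (X.presheaf.stalk (i y) ⧸ stIdeal i y) ≃+* Y.presheaf.stalk y :=
  RingHom.quotientKerEquivOfSurjective (f := (i.stalkMap y).hom) (i.stalkMap_surjective y)

theorem quotEquiv_mk (y : Y) (a : X.presheaf.stalk (i y)) :
    quotEquiv i y (Ideal.Quotient.mk _ a) = (i.stalkMap y).hom a := rfl

theorem pullGerm_map {M N : X.Modules} (φ : M ⟶ N) (y : Y) (t : M.presheaf.stalk (i y)) :
    pullGerm i N y (RefHull.stalkMapₗ φ (i y) t) =
      RefHull.stalkMapₗ ((Scheme.Modules.pullback i).map φ) y (pullGerm i M y t) := by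
  obtain ⟨U, hU, m, rfl⟩ := exists_germ M (i y) t
  rw [pullGerm_germ]
  erw [RefHull.stalkMapₗ_germ φ (i y) hU m, RefHull.stalkMapₗ_germ]
  rw [pullGerm_germ, Groth.PicAux.pullSec_map]

theorem pullGerm_surjective (M : X.Modules) (y : Y) : Function.Surjective (pullGerm i M y) := by
  intro t
  obtain ⟨z, rfl⟩ := (pullStalkHom_bijective i M y).2 t
  let _ := stalkAlg i y
  obtain ⟨s, rfl⟩ := TensorProduct.mk_surjective (X.presheaf.stalk (i y)) (M.presheaf.stalk (i y))
    (Y.presheaf.stalk y) (i.stalkMap_surjective y) z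
  exact ⟨s, ((pullStalkHom_tmul i M y 1 s).trans (one_smul _ _)).symm⟩

theorem mem_smul_of_one_tmul_eq_zero {A B M : Type u} [CommRing A] [CommRing B] [Algebra A B]
    [AddCommGroup M] [Module A M] (hsurj : Function.Surjective (algebraMap A B)) {t : M}
    (h : (1 : B) ⊗ₜ[A] t = 0) : t ∈ RingHom.ker (algebraMap A B) • (⊤ : Submodule A M) := by
  let e : (A ⧸ RingHom.ker (algebraMap A B)) ≃ₐ[A] B :=
    Ideal.quotientKerAlgEquivOfSurjective (f := Algebra.ofId A B) hsurj
  have h' := congr((TensorProduct.congr e.symm.toLinearEquiv (LinearEquiv.refl A M)) $h)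
  rw [TensorProduct.congr_tmul, map_zero] at h'
  simp only [AlgEquiv.toLinearEquiv_apply, map_one, LinearEquiv.refl_apply] at h'
  have h'' := congr((TensorProduct.quotTensorEquivQuotSMul M (RingHom.ker (algebraMap A B))) $h')
  rw [map_zero] at h''
  erw [TensorProduct.quotTensorEquivQuotSMul_mk_tmul, one_smul] at h''
  exact (Submodule.Quotient.mk_eq_zero _).mp h''

theorem pullGerm_eq_zero_iff (M : X.Modules) (y : Y) (t : M.presheaf.stalk (i y)) :
    pullGerm i M y t = 0 ↔
      t ∈ stIdeal i y • (⊤ : Submodule (X.presheaf.stalk (i y)) (M.presheaf.stalk (i y))) := by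
  refine ⟨fun h => ?_, fun h => ?_⟩
  · exact @mem_smul_of_one_tmul_eq_zero (X.presheaf.stalk (i y)) (Y.presheaf.stalk y) (M.presheaf.stalk (i y))
      _ _ (stalkAlg i y) _ _ (i.stalkMap_surjective y) t
      ((pullStalkHom_bijective i M y).1
        (((pullStalkHom_tmul i M y 1 t).trans (one_smul _ _)).trans (h.trans (map_zero _).symm)))
  · induction h using Submodule.smul_induction_on' with
    | smul r hr m hm => rw [pullGerm_smul, show i.stalkMap y r = 0 from hr, zero_smul]
    | add p _ q _ hp hq => rw [map_add, hp, hq, add_zero]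

/-- The ideal sheaf inside `O_X` on stalks. -/
def idealIncl (y : Y) :
    (ClSub.idealMod i.ker).presheaf.stalk (i y) →ₗ[X.presheaf.stalk (i y)] X.presheaf.stalk (i y) :=
  Groth.RefRank.incl i.ker (i y)

theorem idealIncl_injective (y : Y) : Function.Injective (idealIncl i y) := by
  refine ((Groth.RefRank.oneEquiv (i y)).symm.injective).comp ?_
  have : Mono (ClSub.idealModι i.ker) := equalizer.ι_mono
  exact (Groth.QCohMod.mono_iff_stalk (ClSub.idealModι i.ker)).1 this (i y)

theorem range_idealIncl (y : Y) : LinearMap.range (idealIncl i y) = stIdeal i y := by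
  rw [stIdeal, Groth.Calg6.ClosedImmStalk.ker_stalkMap_eq]
  refine le_antisymm ?_ ?_
  · rintro _ ⟨v, rfl⟩
    obtain ⟨U, hU, k, rfl⟩ := exists_germ _ (i y) v
    obtain ⟨W, hW, hyW, hle⟩ := exists_isAffineOpen_mem_and_subset (U := U) (x := i y) hU
    rw [← Groth.QCohMod.germ_res _ hle (i y) hyW k, idealIncl, Groth.RefRank.incl_germ,
      Groth.ParaFormal.stalkIdeal_eq i.ker ⟨W, hW⟩ hyW]
    exact Ideal.mem_map_of_mem _ (Groth.OmegaSheaf.idealSect_mem i.ker ⟨W, hW⟩ _)
  · obtain ⟨W, hW, hyW, -⟩ := exists_isAffineOpen_mem_and_subset (U := (⊤ : X.Opens)) (x := i y) trivial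
    rw [Groth.ParaFormal.stalkIdeal_eq i.ker ⟨W, hW⟩ hyW, Ideal.map_le_iff_le_comap]
    intro r hr
    obtain ⟨k, hk⟩ := (Groth.OmegaSheaf.idealSecEquiv i.ker ⟨W, hW⟩).surjective ⟨r, hr⟩
    refine ⟨Groth.QCohMod.germ _ (i y) hyW k, ?_⟩
    rw [idealIncl, Groth.RefRank.incl_germ]
    exact congrArg (X.presheaf.germ W (i y) hyW) (congrArg Subtype.val hk)

/-- A resolution of `i_* O_Y` with flat stalks. -/
structure Resolution where
  /-- the terms -/
  E : ℕ → X.Modules
  /-- the differentials -/
  d : ∀ n, E (n + 1) ⟶ E n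
  /-- the augmentation -/
  aug : E 0 ⟶ (Scheme.Modules.pushforward i).obj (Coh.structureModule Y)
  epi : Epi aug
  w₀ : d 0 ≫ aug = 0
  exact₀ : (ShortComplex.mk (d 0) aug w₀).Exact
  w : ∀ n, d (n + 1) ≫ d n = 0
  exact : ∀ n, (ShortComplex.mk (d (n + 1)) (d n) (w n)).Exact
  flat : ∀ n x, Module.Flat (X.presheaf.stalk x) ((E n).presheaf.stalk x)

variable {i} (R : Resolution i)

/-- The terms at `i y`. -/
abbrev Est (y : Y) (n : ℕ) : Type u := (R.E n).presheaf.stalk (i y)

/-- The differentials at `i y`. -/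
abbrev dst (y : Y) (n : ℕ) : Est R y (n + 1) →ₗ[X.presheaf.stalk (i y)] Est R y n :=
  RefHull.stalkMapₗ (R.d n) (i y)

/-- `(i_*O_Y)_{i y} = B = A ⧸ J`. -/
def augVal (y : Y) (v : Est R y 0) : Y.presheaf.stalk y :=
  (Groth.RefRank.oneEquiv y).symm
    (Groth.CohTwo.pushStalk i (Coh.structureModule Y) y (RefHull.stalkMapₗ R.aug (i y) v))

theorem augVal_add (y : Y) (v w : Est R y 0) : augVal R y (v + w) = augVal R y v + augVal R y w := by
  simp only [augVal, map_add]

theorem augVal_smul (y : Y) (a : X.presheaf.stalk (i y)) (v : Est R y 0) :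
    augVal R y (a • v) = (i.stalkMap y).hom a * augVal R y v := by
  rw [augVal, map_smul, Groth.KTheory.PushRes.pushStalk_smul, map_smul, smul_eq_mul]
  rfl

/-- The augmentation at `i y`. -/
def εst (y : Y) : Est R y 0 →ₗ[X.presheaf.stalk (i y)] X.presheaf.stalk (i y) ⧸ stIdeal i y where
  toFun v := (quotEquiv i y).symm (augVal R y v)
  map_add' v w := by rw [augVal_add, map_add]
  map_smul' a v := by
    obtain ⟨b, hb⟩ := Ideal.Quotient.mk_surjective ((quotEquiv i y).symm (augVal R y v))
    apply (quotEquiv i y).injective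
    rw [RingEquiv.apply_symm_apply, augVal_smul, RingHom.id_apply, ← hb]
    show _ = quotEquiv i y (Ideal.Quotient.mk _ (a * b))
    rw [quotEquiv_mk, map_mul, ← quotEquiv_mk i y b, hb, RingEquiv.apply_symm_apply]

theorem isRes (y : Y) : IsRes (dst R y) (εst R y) := by
  have hz : ∀ v, εst R y v = 0 ↔ RefHull.stalkMapₗ R.aug (i y) v = 0 := fun v => by
    show (quotEquiv i y).symm (augVal R y v) = 0 ↔ _
    rw [EmbeddingLike.map_eq_zero_iff, augVal, LinearEquiv.map_eq_zero_iff,
      map_eq_zero_iff _ (Groth.CohTwo.bijective_pushStalk i _ y).1]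
  refine ⟨fun c => ?_, fun v => ?_, fun v hv => ?_, fun n v => ?_, fun n v hv => ?_⟩
  · obtain ⟨t, ht⟩ := (Groth.CohTwo.bijective_pushStalk i (Coh.structureModule Y) y).2
      (Groth.RefRank.oneEquiv y (quotEquiv i y c))
    obtain ⟨v, hv⟩ := (Groth.QCohMod.epi_iff_stalk R.aug).1 R.epi (i y) t
    refine ⟨v, ?_⟩
    show (quotEquiv i y).symm (augVal R y v) = c
    rw [augVal, stalkMapₗ_apply, hv, ht, LinearEquiv.symm_apply_apply, RingEquiv.symm_apply_apply]
  · rw [hz, ← stalkMapₗ_comp_apply, R.w₀, stalkMapₗ_zero_apply]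
  · exact (ShortComplex.ab_exact_iff _).1 ((Groth.QCohMod.exact_iff_stalk _).1 R.exact₀ (i y)) v ((hz v).1 hv)
  · show RefHull.stalkMapₗ (R.d n) (i y) (RefHull.stalkMapₗ (R.d (n + 1)) (i y) v) = 0
    rw [← stalkMapₗ_comp_apply, R.w, stalkMapₗ_zero_apply]
  · exact (ShortComplex.ab_exact_iff _).1 ((Groth.QCohMod.exact_iff_stalk _).1 (R.exact n) (i y)) v hv

/-- The pulled-back terms. -/
abbrev Ebar (n : ℕ) : Y.Modules := (Scheme.Modules.pullback i).obj (R.E n)

/-- The pulled-back differentials. -/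
abbrev dbar (n : ℕ) : Ebar R (n + 1) ⟶ Ebar R n := (Scheme.Modules.pullback i).map (R.d n)

theorem dbar_dbar (n : ℕ) : dbar R (n + 1) ≫ dbar R n = 0 := by
  rw [← Functor.map_comp, R.w]
  have : (Scheme.Modules.pullback i).Additive := inferInstance
  exact Functor.map_zero _ _ _

/-- Pulled-back terms modulo boundaries. -/
def Qs (q : ℕ) : Y.Modules := cokernel (dbar R q)

/-- The projection. -/
def qproj (q : ℕ) : Ebar R q ⟶ Qs R q := cokernel.π (dbar R q)

/-- The induced differential. -/
def qdesc (q : ℕ) : Qs R (q + 1) ⟶ Ebar R q := cokernel.desc (dbar R (q + 1)) (dbar R q) (dbar_dbar R q)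

@[reassoc (attr := simp)]
theorem qproj_qdesc (q : ℕ) : qproj R (q + 1) ≫ qdesc R q = dbar R q := cokernel.π_desc _ _ _

/-- `E_{i y} → (Qs)_y`. -/
def qbar (y : Y) (q : ℕ) : Est R y q →+ (Qs R q).presheaf.stalk y :=
  (RefHull.stalkMapₗ (qproj R q) y).toAddMonoidHom.comp (pullGerm i (R.E q) y)

theorem qbar_apply (y : Y) (q : ℕ) (v : Est R y q) :
    qbar R y q v = RefHull.stalkMapₗ (qproj R q) y (pullGerm i (R.E q) y v) := rfl

theorem qbar_smul (y : Y) (q : ℕ) (a : X.presheaf.stalk (i y)) (v : Est R y q) :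
    qbar R y q (a • v) = (i.stalkMap y).hom a • qbar R y q v := by
  rw [qbar_apply, qbar_apply, pullGerm_smul, map_smul]

theorem qbar_surjective (y : Y) (q : ℕ) : Function.Surjective (qbar R y q) := by
  intro t
  obtain ⟨s, hs⟩ := (Groth.QCohMod.epi_iff_stalk (qproj R q)).1
    (by unfold qproj Qs; infer_instance) y t
  obtain ⟨v, hv⟩ := pullGerm_surjective i (R.E q) y s
  exact ⟨v, by rw [qbar_apply, hv, stalkMapₗ_apply, hs]⟩

theorem qbar_eq_zero_iff (y : Y) (q : ℕ) (v : Est R y q) :
    qbar R y q v = 0 ↔ v ∈ bdSub (I := stIdeal i y) (dst R y) q := by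
  refine ⟨fun h => ?_, fun h => ?_⟩
  · have hex := ShortComplex.exact_of_g_is_cokernel
      (ShortComplex.mk (dbar R q) (cokernel.π (dbar R q)) (cokernel.condition _)) (cokernelIsCokernel _)
    obtain ⟨w, hw⟩ := (ShortComplex.ab_exact_iff _).1 ((Groth.QCohMod.exact_iff_stalk _).1 hex y)
      (pullGerm i (R.E q) y v) h
    obtain ⟨w', rfl⟩ := pullGerm_surjective i (R.E (q + 1)) y w
    have hw' : RefHull.stalkMapₗ (dbar R q) y (pullGerm i (R.E (q + 1)) y w') = pullGerm i (R.E q) y v := hw
    rw [← pullGerm_map] at hw'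
    have h0 : pullGerm i (R.E q) y (v - dst R y q w') = 0 := by rw [map_sub, ← hw', sub_self]
    exact Submodule.mem_sup.2 ⟨_, ⟨w', rfl⟩, _, (pullGerm_eq_zero_iff i (R.E q) y _).1 h0,
      add_sub_cancel _ _⟩
  · obtain ⟨_, ⟨w, rfl⟩, c, hc, rfl⟩ := Submodule.mem_sup.1 h
    rw [qbar_apply, map_add, (pullGerm_eq_zero_iff i (R.E q) y c).2 hc, add_zero]
    show RefHull.stalkMapₗ (qproj R q) y (pullGerm i (R.E q) y (RefHull.stalkMapₗ (R.d q) (i y) w)) = 0
    rw [pullGerm_map, ← stalkMapₗ_comp_apply, show dbar R q ≫ qproj R q = 0 from cokernel.condition _,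
      stalkMapₗ_zero_apply]

theorem qdesc_qbar (y : Y) (q : ℕ) (v : Est R y (q + 1)) :
    RefHull.stalkMapₗ (qdesc R q) y (qbar R y (q + 1) v) = pullGerm i (R.E q) y (dst R y q v) := by
  rw [qbar_apply, ← stalkMapₗ_comp_apply, qproj_qdesc, ← pullGerm_map]

/-- The algebraic quotient to the stalk. -/
def qhat (y : Y) (q : ℕ) : Q (I := stIdeal i y) (dst R y) q →+ (Qs R q).presheaf.stalk y :=
  AddMonoidHom.mk' (fun z => qbar R y q (Function.surjInv (Submodule.Quotient.mk_surjective _) z)) (by
    have key : ∀ z v, Submodule.Quotient.mk v = z →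
        qbar R y q (Function.surjInv (Submodule.Quotient.mk_surjective _) z) = qbar R y q v := fun z v h => by
      rw [← sub_eq_zero, ← map_sub, qbar_eq_zero_iff]
      exact (Submodule.Quotient.eq _).1 ((Function.surjInv_eq _ z).trans h.symm)
    intro a b
    obtain ⟨v, rfl⟩ := Submodule.Quotient.mk_surjective _ a
    obtain ⟨w, rfl⟩ := Submodule.Quotient.mk_surjective _ b
    rw [key _ (v + w) (Submodule.Quotient.mk_add _), key _ v rfl, key _ w rfl, map_add])

theorem qhat_mk (y : Y) (q : ℕ) (v : Est R y q) :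
    qhat R y q (Submodule.Quotient.mk v) = qbar R y q v := by
  show qbar R y q _ = _
  rw [← sub_eq_zero, ← map_sub, qbar_eq_zero_iff]
  exact (Submodule.Quotient.eq _).1 (Function.surjInv_eq _ _)

theorem qhat_smul (y : Y) (q : ℕ) (a : X.presheaf.stalk (i y)) (z : Q (I := stIdeal i y) (dst R y) q) :
    qhat R y q (a • z) = (i.stalkMap y).hom a • qhat R y q z := by
  obtain ⟨v, rfl⟩ := Submodule.Quotient.mk_surjective _ z
  rw [← Submodule.Quotient.mk_smul, qhat_mk, qhat_mk, qbar_smul]

/-- Changing every entry by `I • I` does not change the class. -/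
theorem tauAlt_congr {A : Type u} [CommRing A] {I : Ideal A} {E : ℕ → Type u} [∀ n, AddCommGroup (E n)]
    [∀ n, Module A (E n)] {d : ∀ n, E (n + 1) →ₗ[A] E n} {ε : E 0 →ₗ[A] A ⧸ I} (hE : IsRes d ε) {q : ℕ}
    (x x' : Fin q → ↥I) (h : ∀ a, x a - x' a ∈ I • (⊤ : Submodule A ↥I)) :
    tauAlt d ε hE q x = tauAlt d ε hE q x' := by
  classical
  suffices ∀ s : Finset (Fin q), tauAlt d ε hE q (s.piecewise x' x) = tauAlt d ε hE q x by
    simpa using (this Finset.univ).symm
  intro s
  induction s using Finset.induction_on with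
  | empty => simp
  | insert a s ha ih =>
    have e : x' a = x a + (x' a - x a) := by abel
    rw [Finset.piecewise_insert, e, AlternatingMap.map_update_add,
      show (tauAlt d ε hE q) (Function.update (s.piecewise x' x) a (x' a - x a)) = 0 from
        tauAlt_eq_zero_of_mem hE _ a (by
          rw [Function.update_self, ← neg_sub]
          exact neg_mem (h a)),
      add_zero, show x a = s.piecewise x' x a from (Finset.piecewise_eq_of_notMem _ _ _ ha).symm,
      Function.update_eq_self, ih]

/-- The conormal stalk. -/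
abbrev Cst (i : Y ⟶ X) (y : Y) : Type u := (Omega.conormal i).presheaf.stalk y

/-- `(J-sheaf)_{i y} → C_y`. -/
def cproj (i : Y ⟶ X) (y : Y) : (ClSub.idealMod i.ker).presheaf.stalk (i y) →+ Cst i y :=
  pullGerm i (ClSub.idealMod i.ker) y

/-- An element of the ideal sheaf as an element of the ideal. -/
def idealIncl' (y : Y) :
    (ClSub.idealMod i.ker).presheaf.stalk (i y) →ₗ[X.presheaf.stalk (i y)] ↥(stIdeal i y) :=
  (idealIncl i y).codRestrict _ fun v => (range_idealIncl i y).le ⟨v, rfl⟩

theorem idealIncl'_surjective (y : Y) : Function.Surjective (idealIncl' (i := i) y) := fun a => by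
  obtain ⟨v, hv⟩ := (range_idealIncl i y).ge a.2
  exact ⟨v, Subtype.ext hv⟩

theorem cproj_surjective (y : Y) : Function.Surjective (cproj i y) := pullGerm_surjective i _ y

/-- The class of a lift. -/
def tauLift (y : Y) (q : ℕ) (v : Fin q → (ClSub.idealMod i.ker).presheaf.stalk (i y)) :
    (Qs R q).presheaf.stalk y :=
  qhat R y q (tauAlt (dst R y) (εst R y) (isRes R y) q fun a => idealIncl' y (v a))

theorem tauLift_congr (y : Y) (q : ℕ) (v v' : Fin q → (ClSub.idealMod i.ker).presheaf.stalk (i y))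
    (h : ∀ a, cproj i y (v a) = cproj i y (v' a)) : tauLift R y q v = tauLift R y q v' := by
  refine congrArg (qhat R y q) (tauAlt_congr _ _ _ fun a => ?_)
  rw [← map_sub]
  have h0 : pullGerm i (ClSub.idealMod i.ker) y (v a - v' a) = 0 := by
    rw [map_sub, sub_eq_zero]; exact h a
  have h1 := Submodule.mem_map_of_mem (f := idealIncl' (i := i) y) ((pullGerm_eq_zero_iff i _ y _).1 h0)
  rw [Submodule.map_smul''] at h1
  exact Submodule.smul_mono le_rfl le_top h1

theorem cproj_update {y : Y} {q : ℕ} (v : Fin q → (ClSub.idealMod i.ker).presheaf.stalk (i y)) (a : Fin q)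
    (w : (ClSub.idealMod i.ker).presheaf.stalk (i y)) (b : Fin q) :
    cproj i y (Function.update v a w b) =
      Function.update (fun b => cproj i y (v b)) a (cproj i y w) b :=
  congrFun (Function.comp_update (cproj i y) v a w) b

/-- The alternating map on the conormal stalk. -/
def tauSt (y : Y) (q : ℕ) : Cst i y [⋀^Fin q]→ₗ[Y.presheaf.stalk y] (Qs R q).presheaf.stalk y where
  toFun c := tauLift R y q fun a => Function.surjInv (cproj_surjective y) (c a)
  map_update_add' := by
    intro inst c a u w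
    obtain rfl : inst = instDecidableEqFin q := Subsingleton.elim _ _
    set g := Function.surjInv (cproj_surjective (i := i) y) with hg
    have hgr : ∀ t, cproj i y (g t) = t := fun t => Function.surjInv_eq _ t
    have key : ∀ t t', cproj i y t' = t → (tauLift R y q fun b => g (Function.update c a t b)) =
        tauLift R y q (Function.update (fun b => g (c b)) a t') := fun t t' ht => by
      refine tauLift_congr R y q _ _ fun b => ?_
      rw [hgr, cproj_update, ht]
      simp only [hgr]
    rw [key (u + w) (g u + g w) (by rw [map_add, hgr, hgr]), key u (g u) (hgr u), key w (g w) (hgr w)]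
    have e : ∀ t, (fun b => idealIncl' (i := i) y (Function.update (fun b => g (c b)) a t b)) =
        Function.update (fun b => idealIncl' (i := i) y (g (c b))) a (idealIncl' y t) :=
      fun t => Function.comp_update _ _ a t
    simp only [tauLift]
    rw [e, e, e, map_add (idealIncl' (i := i) y), AlternatingMap.map_update_add, map_add]
  map_update_smul' := by
    intro inst c a r u
    obtain rfl : inst = instDecidableEqFin q := Subsingleton.elim _ _
    set g := Function.surjInv (cproj_surjective (i := i) y) with hg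
    have hgr : ∀ t, cproj i y (g t) = t := fun t => Function.surjInv_eq _ t
    obtain ⟨r', rfl⟩ := i.stalkMap_surjective y r
    have key : ∀ t t', cproj i y t' = t → (tauLift R y q fun b => g (Function.update c a t b)) =
        tauLift R y q (Function.update (fun b => g (c b)) a t') := fun t t' ht => by
      refine tauLift_congr R y q _ _ fun b => ?_
      rw [hgr, cproj_update, ht]
      simp only [hgr]
    rw [key _ (r' • g u) (by
      show pullGerm i _ y (r' • g u) = _
      rw [pullGerm_smul]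
      exact congrArg ((i.stalkMap y) r' • ·) (hgr u)), key u (g u) (hgr u)]
    have e : ∀ t, (fun b => idealIncl' (i := i) y (Function.update (fun b => g (c b)) a t b)) =
        Function.update (fun b => idealIncl' (i := i) y (g (c b))) a (idealIncl' y t) :=
      fun t => Function.comp_update _ _ a t
    simp only [tauLift]
    rw [e, e, map_smul (idealIncl' (i := i) y), AlternatingMap.map_update_smul, qhat_smul]
  map_eq_zero_of_eq' := by
    intro c a b h hab
    rw [tauLift, AlternatingMap.map_eq_zero_of_eq _ _ (by rw [h]) hab, map_zero]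

theorem tauSt_eq (y : Y) (q : ℕ) (c : Fin q → Cst i y)
    (v : Fin q → (ClSub.idealMod i.ker).presheaf.stalk (i y)) (h : ∀ a, cproj i y (v a) = c a) :
    tauSt R y q c = tauLift R y q v :=
  tauLift_congr R y q _ _ fun a => (Function.surjInv_eq (cproj_surjective y) (c a)).trans (h a).symm

/-- The value through a lift of the Koszul complex. -/
theorem tauLift_eq (y : Y) (q : ℕ) (v : Fin q → (ClSub.idealMod i.ker).presheaf.stalk (i y))
    (F : Lift (dst R y) (εst R y) fun a => idealIncl i y (v a)) :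
    tauLift R y q v = qbar R y q (F.map q fun _ => 1) := by
  have hx : ∀ a, idealIncl i y (v a) ∈ stIdeal i y := fun a => (range_idealIncl i y).le ⟨v a, rfl⟩
  rw [tauLift, ← qhat_mk, ← tau_eq (isRes R y) hx F]
  rfl

/-- The classes are cycles. -/
theorem qdesc_tauSt (y : Y) (q : ℕ) (c : Fin (q + 1) → Cst i y) :
    RefHull.stalkMapₗ (qdesc R q) y (tauSt R y (q + 1) c) = 0 := by
  choose v hv using fun a => cproj_surjective (i := i) y (c a)
  have hx : ∀ a, idealIncl i y (v a) ∈ stIdeal i y := fun a => (range_idealIncl i y).le ⟨v a, rfl⟩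
  obtain ⟨F⟩ := exists_lift (isRes R y) _ hx
  rw [tauSt_eq R y _ c v hv, tauLift_eq R y _ v F, qdesc_qbar, F.comm, pullGerm_eq_zero_iff]
  exact mem_smul_pi (F.map q) fun j => d_mem_ideal hx q _ j

end Groth.TorSelf
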